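import Mathlib
import Cfsg.Prelude.Def_GeometricClasses
import Cfsg.Agent.Lib.Forms.Max.Linear

/-!
# Cubic field subalgebras of three by three matrices
-/

set_option autoImplicit false
set_option linter.unusedSectionVars false

namespace Cfsg.Agent.Forms.Max.SL3.Singer

open Matrix Cfsg.Agent.Aschbacher

variable {F : Type*} [Field F]

local notation "Mat" => Matrix (Fin 3) (Fin 3) F
local notation "Vec" => (Fin 3 → F)
local notation "GL3" => GL (Fin 3) F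

/-- `M` contains the elements of determinant one of the field -/
def CycIn (K : Subalgebra F (Matrix (Fin 3) (Fin 3) F)) (M : Subgroup GL3) : Prop :=
  ∀ g : GL3, (g : Mat) ∈ K → (g : Mat).det = 1 → g ∈ M

/-- `M` contains the transvection with centre `u` and functional `φ` -/
def Tr (M : Subgroup GL3) (u φ : Vec) : Prop :=
  φ ⬝ᵥ u = 0 ∧ ∃ m ∈ M, ∀ x, (m : Mat) *ᵥ x = x + (φ ⬝ᵥ x) • u

/-- `w` lies in the orbit of `v` under the elements of determinant one, up to scalars -/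
def Orb (K : Subalgebra F (Matrix (Fin 3) (Fin 3) F)) (v w : Vec) : Prop :=
  ∃ k ∈ K, k ≠ 0 ∧ (∃ c : F, k.det = c ^ 3) ∧ w = k *ᵥ v

variable {K : Subalgebra F (Matrix (Fin 3) (Fin 3) F)}

theorem exists_gl (hK : Cfsg.Geo.IsFieldSubalgebra 3 K) {k : Mat} (hk : k ∈ K) (h0 : k ≠ 0) :
    ∃ g : GL3, (g : Mat) = k ∧ ((g⁻¹ : GL3) : Mat) ∈ K := by
  obtain ⟨y, hy, e⟩ := hK.inv k hk h0
  exact ⟨⟨k, y, e, mul_eq_one_comm.1 e⟩, rfl, hy⟩

theorem det_ne_zero (hK : Cfsg.Geo.IsFieldSubalgebra 3 K) {k : Mat} (hk : k ∈ K) (h0 : k ≠ 0) : k.det ≠ 0 := by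
  obtain ⟨y, -, e⟩ := hK.inv k hk h0
  intro h
  have := congrArg Matrix.det e
  rw [Matrix.det_mul, h, zero_mul, Matrix.det_one] at this
  exact zero_ne_one this

/-- only scalars have eigenvectors -/
theorem eq_scalar (hK : Cfsg.Geo.IsFieldSubalgebra 3 K) {k : Mat} (hk : k ∈ K) {v : Vec} (hv : v ≠ 0) {c : F}
    (h : k *ᵥ v = c • v) : k = c • 1 := by
  by_contra hne
  obtain ⟨y, -, e⟩ := hK.inv (k - c • 1) (K.sub_mem hk (K.smul_mem K.one_mem c)) (sub_ne_zero.2 hne)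
  refine hv ?_
  have := congrArg (· *ᵥ v) (mul_eq_one_comm.1 e)
  simpa [← Matrix.mulVec_mulVec, Matrix.sub_mulVec, Matrix.smul_mulVec, h] using this.symm

theorem eq_scalar_left (hK : Cfsg.Geo.IsFieldSubalgebra 3 K) {k : Mat} (hk : k ∈ K) {φ : Vec} (hφ : φ ≠ 0) {c : F}
    (h : φ ᵥ* k = c • φ) : k = c • 1 := by
  by_contra hne
  obtain ⟨y, -, e⟩ := hK.inv (k - c • 1) (K.sub_mem hk (K.smul_mem K.one_mem c)) (sub_ne_zero.2 hne)
  refine hφ ?_
  have := congrArg (φ ᵥ* ·) e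
  simpa [← Matrix.vecMul_vecMul, Matrix.vecMul_sub, Matrix.vecMul_smul, h] using this.symm

/-- every vector is the image of a nonzero vector under a unique element of the field -/
theorem exists_mulVec (hK : Cfsg.Geo.IsFieldSubalgebra 3 K) {v : Vec} (hv : v ≠ 0) (w : Vec) :
    ∃ k ∈ K, k *ᵥ v = w := by
  let L : K →ₗ[F] Vec :=
    { toFun := fun k => (k : Mat) *ᵥ v
      map_add' := fun a b => by simp [Matrix.add_mulVec]
      map_smul' := fun c a => by simp [Matrix.smul_mulVec] }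
  have hinj : Function.Injective L := by
    rw [← LinearMap.ker_eq_bot, LinearMap.ker_eq_bot']
    intro k hk
    have := eq_scalar hK k.2 hv (c := 0) (by rw [zero_smul]; exact hk)
    exact Subtype.ext (by simpa using this)
  haveI : FiniteDimensional F K := Module.finite_of_finrank_pos (by rw [hK.finrank_eq]; norm_num)
  obtain ⟨k, hk⟩ := (LinearMap.injective_iff_surjective_of_finrank_eq_finrank
    (by rw [hK.finrank_eq, Module.finrank_fintype_fun_eq_card, Fintype.card_fin]) ).1 hinj w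
  exact ⟨k, k.2, hk⟩

/-- elements of the orbit come from the group, up to scalars -/
theorem Orb.exists_mem (hK : Cfsg.Geo.IsFieldSubalgebra 3 K) {M : Subgroup GL3} (hM : CycIn K M) {v w : Vec}
    (h : Orb K v w) : ∃ g ∈ M, ∃ c : F, c ≠ 0 ∧ w = c • ((g : Mat) *ᵥ v) := by
  obtain ⟨k, hk, h0, ⟨c, hc⟩, rfl⟩ := h
  have hc0 : c ≠ 0 := fun e => det_ne_zero hK hk h0 (by rw [hc, e]; ring)
  obtain ⟨g, hg, -⟩ := exists_gl hK (K.smul_mem hk c⁻¹) (smul_ne_zero (inv_ne_zero hc0) h0)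
  refine ⟨g, hM g (hg ▸ K.smul_mem hk c⁻¹) ?_, c, hc0, ?_⟩
  · rw [hg, Matrix.det_smul, hc, Fintype.card_fin, inv_pow, inv_mul_cancel₀ (pow_ne_zero _ hc0)]
  · rw [hg, Matrix.smul_mulVec, smul_inv_smul₀ hc0]

theorem Tr.conj {M : Subgroup GL3} {u φ : Vec} (h : Tr M u φ) {g : GL3} (hg : g ∈ M) :
    Tr M ((g : Mat) *ᵥ u) (φ ᵥ* ((g⁻¹ : GL3) : Mat)) := by
  obtain ⟨h0, m, hm, e⟩ := h
  refine ⟨by rw [← dotProduct_mulVec, inv_mulVec_cancel, h0], g * m * g⁻¹, mul_mem (mul_mem hg hm) (inv_mem hg),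
    fun x => ?_⟩
  rw [Max.mulVec_mul_GL, Max.mulVec_mul_GL, e, Matrix.mulVec_add, Matrix.mulVec_smul, Max.mulVec_inv_cancel,
    ← dotProduct_mulVec]

theorem Tr.swap {M : Subgroup GL3} {u φ : Vec} {c : F} (h : Tr M (c • u) φ) (hc : c ≠ 0) : Tr M u (c • φ) := by
  obtain ⟨h0, m, hm, e⟩ := h
  rw [dotProduct_smul, smul_eq_mul] at h0
  refine ⟨by rw [smul_dotProduct, (mul_eq_zero.1 h0).resolve_left hc, smul_zero], m, hm, fun x => ?_⟩
  rw [e, smul_dotProduct, smul_eq_mul, smul_smul, mul_comm]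

theorem Tr.add {M : Subgroup GL3} {u φ ψ : Vec} (h : Tr M u φ) (h' : Tr M u ψ) : Tr M u (φ + ψ) := by
  obtain ⟨h0, m, hm, e⟩ := h
  obtain ⟨h0', n, hn, e'⟩ := h'
  refine ⟨by rw [add_dotProduct, h0, h0', add_zero], m * n, mul_mem hm hn, fun x => ?_⟩
  rw [Max.mulVec_mul_GL, e', e, dotProduct_add, dotProduct_smul, h0, smul_zero, add_zero, add_dotProduct, add_smul]
  module

/-- the commutator of two transvections with the first centre on the second axis -/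
theorem Tr.comm {M : Subgroup GL3} {u φ v ψ : Vec} (h : Tr M u φ) (h' : Tr M v ψ) (h0 : ψ ⬝ᵥ u = 0) :
    Tr M u ((φ ⬝ᵥ v) • ψ) := by
  obtain ⟨hu, m, hm, e⟩ := h
  obtain ⟨hv, n, hn, e'⟩ := h'
  refine ⟨by rw [smul_dotProduct, h0, smul_zero], m * n * m⁻¹ * n⁻¹, ?_, fun x => ?_⟩
  · exact mul_mem (mul_mem (mul_mem hm hn) (inv_mem hm)) (inv_mem hn)
  obtain ⟨y, rfl⟩ : ∃ y, ((n * m : GL3) : Mat) *ᵥ y = x := ⟨_, Max.mulVec_inv_cancel (n * m) x⟩
  have hh : (m * n * m⁻¹ * n⁻¹ : GL3) * (n * m) = m * n := by group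
  rw [← Max.mulVec_mul_GL, hh]
  simp only [Max.mulVec_mul_GL, e, e', dotProduct_add, dotProduct_smul, smul_dotProduct, h0, hv, hu, smul_eq_mul,
    mul_zero, add_zero]
  module

end Cfsg.Agent.Forms.Max.SL3.Singer
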