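import Mathlib
import Cfsg.Agent.Lib.Forms.Max.SL3.Singer.Basic

/-!
# Orbit points of the norm one group on a line of the plane
-/

set_option autoImplicit false
set_option linter.unusedSectionVars false

namespace Cfsg.Agent.Forms.Max.SL3.Singer.Count

open Matrix Finset

variable {F : Type*} [Field F] [Fintype F]
variable {K : Subalgebra F (Matrix (Fin 3) (Fin 3) F)}

local notation "Vec" => (Fin 3 → F)

theorem all_orb (hK : Cfsg.Geo.IsFieldSubalgebra 3 K) (h3 : Fintype.card F % 3 ≠ 1) {v w : Vec}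
    (hv : v ≠ 0) (hw : w ≠ 0) : Orb K v w := by
  classical
  obtain ⟨k, hk, e⟩ := exists_mulVec hK hv w
  have h0 : k ≠ 0 := fun h => hw (by rw [← e, h, zero_mulVec])
  have hcop : (Nat.card Fˣ).Coprime 3 := by
    rw [Nat.card_eq_fintype_card, Fintype.card_units, Nat.coprime_comm, Nat.Prime.coprime_iff_not_dvd Nat.prime_three]
    have := Fintype.card_pos (α := F)
    omega
  refine ⟨k, hk, h0, ?_, e.symm⟩
  obtain ⟨c, hc⟩ := (powCoprime hcop).surjective (Units.mk0 _ (det_ne_zero hK hk h0))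
  exact ⟨c, by simpa using (congrArg Units.val hc).symm⟩

/-- the cubic character of a matrix -/
def cl (k : Matrix (Fin 3) (Fin 3) F) : F := k.det ^ ((Fintype.card F - 1) / 3)

theorem cl_mul (a b : Matrix (Fin 3) (Fin 3) F) : cl (a * b) = cl a * cl b := by
  rw [cl, Matrix.det_mul, mul_pow]; rfl

theorem cl_cube {k : Matrix (Fin 3) (Fin 3) F} (h3 : Fintype.card F % 3 = 1) (hk : k.det ≠ 0) :
    (∃ c : F, k.det = c ^ 3) ↔ cl k = 1 := by
  classical
  have hd : 3 ∣ Fintype.card F - 1 := by omega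
  constructor
  · rintro ⟨c, hc⟩
    rw [cl, hc, ← pow_mul, Nat.mul_div_cancel' hd, FiniteField.pow_card_sub_one_eq_one]
    exact fun e => hk (by rw [hc, e]; ring)
  · intro h
    obtain ⟨g, hg⟩ := IsCyclic.exists_generator (α := Fˣ)
    obtain ⟨i, hi⟩ := mem_powers_iff_mem_zpowers.2 (hg (Units.mk0 _ hk))
    have hi : g ^ i = Units.mk0 _ hk := hi
    have ho : orderOf g = Fintype.card F - 1 := by
      rw [orderOf_eq_card_of_forall_mem_zpowers hg, Nat.card_eq_fintype_card, Fintype.card_units]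
    have h1 : g ^ (i * ((Fintype.card F - 1) / 3)) = 1 := Units.ext (by
      rw [pow_mul, hi]; simpa [cl] using h)
    have h2 := orderOf_dvd_of_pow_eq_one h1
    rw [ho] at h2
    have hm : 0 < (Fintype.card F - 1) / 3 := by
      have := Fintype.one_lt_card (α := F); omega
    obtain ⟨j, rfl⟩ : 3 ∣ i := by
      obtain ⟨t, ht⟩ := h2
      refine ⟨t, Nat.eq_of_mul_eq_mul_right hm ?_⟩
      rw [ht]; nth_rw 1 [← Nat.mul_div_cancel' hd]; ring
    exact ⟨((g ^ j : Fˣ) : F), by rw [← Units.val_pow_eq_pow_val, ← pow_mul, mul_comm, hi]; rfl⟩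

theorem three_classes (hK : Cfsg.Geo.IsFieldSubalgebra 3 K) (h3 : Fintype.card F % 3 = 1) {φ v : Vec}
    (hφ : φ ≠ 0) (hv : v ≠ 0) :
    ∃ n n₁ n₂ : ℕ, Nat.card {w : Fin 3 → F // w ≠ 0 ∧ φ ⬝ᵥ w = 0 ∧ Orb K v w} = n * (Fintype.card F - 1) ∧
      n + n₁ + n₂ = Fintype.card F + 1 ∧
      3 * (n ^ 2 + n₁ ^ 2 + n₂ ^ 2) = Fintype.card F ^ 2 + 4 * Fintype.card F + 1 ∧
      ∀ R : Fin 3 → F, R ≠ 0 → ¬ Orb K v R →
        Nat.card {w : Fin 3 → F // w ≠ 0 ∧ φ ⬝ᵥ w = 0 ∧ Orb K R w} = n₁ * (Fintype.card F - 1) ∨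
        Nat.card {w : Fin 3 → F // w ≠ 0 ∧ φ ⬝ᵥ w = 0 ∧ Orb K R w} = n₂ * (Fintype.card F - 1) := by
  classical
  set q := Fintype.card F with hq
  have hq1 : 1 < q := Fintype.one_lt_card
  have hd : 3 ∣ q - 1 := by omega
  choose κ hκK hκv using fun w => exists_mulVec hK hv w
  have huniq : ∀ k ∈ K, ∀ w, k *ᵥ v = w → k = κ w := fun k hk w h => sub_eq_zero.1 (by
    simpa using eq_scalar hK (K.sub_mem hk (hκK w)) hv (c := 0) (by rw [zero_smul, Matrix.sub_mulVec, h, hκv, sub_self]))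
  have hκ0 : ∀ {w : Vec}, w ≠ 0 → κ w ≠ 0 := fun {w} hw h => hw (by rw [← hκv w, h, zero_mulVec])
  have hκd : ∀ {w : Vec}, w ≠ 0 → (κ w).det ≠ 0 := fun hw => det_ne_zero hK (hκK _) (hκ0 hw)
  set f : Vec → F := fun w => cl (κ w) with hf
  have hOrb : ∀ {w : Vec}, w ≠ 0 → (Orb K v w ↔ f w = 1) := fun {w} hw =>
    ⟨fun ⟨k, hk, _, hc, e⟩ => (cl_cube h3 (hκd hw)).1 (huniq k hk w e.symm ▸ hc),
      fun h => ⟨κ w, hκK w, hκ0 hw, (cl_cube h3 (hκd hw)).2 h, (hκv w).symm⟩⟩
  have hf3 : ∀ {w : Vec}, w ≠ 0 → f w ^ 3 = 1 := fun {w} hw => by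
    show (cl (κ w)) ^ 3 = 1
    rw [cl, ← pow_mul, ← hq, Nat.div_mul_cancel hd, hq]
    exact FiniteField.pow_card_sub_one_eq_one _ (hκd hw)
  -- cube roots of one
  obtain ⟨ω', hω'⟩ : ∃ u : Fˣ, orderOf u = 3 := exists_prime_orderOf_dvd_card' 3 (by
    rw [Nat.card_eq_fintype_card, Fintype.card_units]; exact hd)
  have hω : IsPrimitiveRoot (ω' : F) 3 := IsPrimitiveRoot.coe_units_iff.2 (hω' ▸ IsPrimitiveRoot.orderOf ω')
  set ω : F := (ω' : F) with hωdef
  have hω1 : ω ≠ 1 := hω.ne_one (by norm_num)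
  have hω2 : ω ^ 2 ≠ 1 := hω.pow_ne_one_of_pos_of_lt (by norm_num) (by norm_num)
  have hω12 : ω ≠ ω ^ 2 := fun e => hω1 (by
    apply mul_left_cancel₀ (Units.ne_zero ω')
    rw [mul_one, ← pow_two, ← e])
  have hroots : ∀ x : F, x ^ 3 = 1 → x = 1 ∨ x = ω ∨ x = ω ^ 2 := fun x hx => by
    obtain ⟨i, hi, rfl⟩ := hω.eq_pow_of_pow_eq_one hx
    interval_cases i <;> simp
  set R : Finset F := {1, ω, ω ^ 2} with hR
  have hfR : ∀ {w : Vec}, w ≠ 0 → f w ∈ R := fun hw => by
    rcases hroots _ (hf3 hw) with h | h | h <;> simp [hR, h]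
  -- translations by field elements
  have hmul : ∀ k ∈ K, ∀ w, f (k *ᵥ w) = cl k * f w := fun k hk w => by
    simp only [hf]
    rw [← huniq (k * κ w) (K.mul_mem hk (hκK w)) (k *ᵥ w) (by rw [← Matrix.mulVec_mulVec, hκv]), cl_mul]
  have hsmul : ∀ (c : F), c ≠ 0 → ∀ w, f (c • w) = f w := fun c hc w => by
    have e : c • w = (c • (1 : Matrix (Fin 3) (Fin 3) F)) *ᵥ w := by rw [Matrix.smul_mulVec, one_mulVec]
    rw [e, hmul _ (K.smul_mem K.one_mem c)]
    rw [cl, Matrix.det_smul, Matrix.det_one, mul_one, Fintype.card_fin, ← pow_mul, ← hq, Nat.mul_div_cancel' hd, hq,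
      FiniteField.pow_card_sub_one_eq_one _ hc, one_mul]
  -- a field element in each class
  obtain ⟨τ, hτK, hτ⟩ : ∃ τ ∈ K, cl τ = ω := by
    have hfield : IsField K :=
      { exists_pair_ne := ⟨0, 1, zero_ne_one⟩
        mul_comm := fun x y => Subtype.ext (hK.comm x.1 x.2 y.1 y.2)
        mul_inv_cancel := fun {x} hx => by
          obtain ⟨y, hy, e⟩ := hK.inv x.1 x.2 fun h => hx (Subtype.ext h)
          exact ⟨⟨y, hy⟩, Subtype.ext e⟩ }
    letI : Field K := hfield.toField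
    haveI : FiniteDimensional F K := Module.finite_of_finrank_pos (by rw [hK.finrank_eq]; norm_num)
    haveI : Finite K := Module.finite_of_finite F
    let e : K ≃ₗ[F] Vec :=
      { toFun := fun k => (k : Matrix (Fin 3) (Fin 3) F) *ᵥ v
        map_add' := fun a b => Matrix.add_mulVec _ _ _
        map_smul' := fun c a => Matrix.smul_mulVec c (a : Matrix (Fin 3) (Fin 3) F) v
        invFun := fun w => ⟨κ w, hκK w⟩
        left_inv := fun k => Subtype.ext (huniq _ k.2 _ rfl).symm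
        right_inv := hκv }
    have hnorm : ∀ a : K, (a : Matrix (Fin 3) (Fin 3) F).det = Algebra.norm F a := fun a => by
      have he : Matrix.toLin' (a : Matrix (Fin 3) (Fin 3) F) =
          (e : K →ₗ[F] Vec) ∘ₗ (Algebra.lmul F K a) ∘ₗ (e.symm : Vec →ₗ[F] K) := by
        refine LinearMap.ext fun w => ?_
        show (a : Matrix (Fin 3) (Fin 3) F) *ᵥ w = ((a : Matrix (Fin 3) (Fin 3) F) * κ w) *ᵥ v
        rw [← Matrix.mulVec_mulVec, hκv]
      rw [Algebra.norm_apply, ← LinearMap.det_toLin', he, LinearMap.det_conj]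
    obtain ⟨g, hg⟩ := IsCyclic.exists_generator (α := Fˣ)
    obtain ⟨a, ha⟩ := FiniteField.norm_surjective F K (g : F)
    have ho : orderOf g = q - 1 := by
      rw [orderOf_eq_card_of_forall_mem_zpowers hg, Nat.card_eq_fintype_card, Fintype.card_units]
    have hz : cl (a : Matrix (Fin 3) (Fin 3) F) = ((g ^ ((q - 1) / 3) : Fˣ) : F) := by
      rw [cl, hnorm, ha, Units.val_pow_eq_pow_val]
    have hne : g ^ ((q - 1) / 3) ≠ 1 := pow_ne_one_of_lt_orderOf (by omega) (by rw [ho]; omega)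
    have hcube : (g ^ ((q - 1) / 3) : Fˣ) ^ 3 = 1 := by
      rw [← pow_mul, Nat.div_mul_cancel hd, ← ho, pow_orderOf_eq_one]
    rcases hroots _ (by rw [← Units.val_pow_eq_pow_val, hcube, Units.val_one]) with h | h | h
    · exact absurd (Units.ext (h.trans Units.val_one.symm)) hne
    · exact ⟨a, a.2, hz.trans h⟩
    · refine ⟨(a * a : K), (a * a).2, ?_⟩
      rw [MulMemClass.coe_mul, cl_mul, hz, h, ← pow_add, pow_succ, hω.pow_eq_one, one_mul]
  have hτ0 : τ ≠ 0 := fun e => by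
    refine Units.ne_zero ω' (hωdef ▸ hτ.symm.trans ?_)
    simp [cl, e, Matrix.det_zero, zero_pow (show (q - 1) / 3 ≠ 0 by omega), ← hq]
  -- the sets
  set S : Finset Vec := univ.filter (fun w => w ≠ 0) with hS
  set G : F → Finset Vec := fun z => S.filter (fun w => f w = z) with hG
  set P : Finset Vec := S.filter (fun w => φ ⬝ᵥ w = 0) with hP
  set A : F → Finset Vec := fun z => P.filter (fun w => f w = z) with hA
  have hzero : ∀ k ∈ K, k ≠ 0 → ∀ {w : Vec}, w ≠ 0 → k *ᵥ w ≠ 0 := fun k hk h0 {w} hw e => h0 (by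
    simpa using eq_scalar hK hk hw (c := 0) (by rw [e, zero_smul]))
  have htrans : ∀ z, (G z).card ≤ (G (ω * z)).card := fun z => by
    refine Finset.card_le_card_of_injOn (fun w => τ *ᵥ w) (fun w hw => ?_) fun x _ y _ e => ?_
    · simp only [hG, hS, mem_coe, mem_filter, mem_univ, true_and] at hw ⊢
      exact ⟨hzero τ hτK hτ0 hw.1, by rw [hmul τ hτK, hτ, hw.2]⟩
    · by_contra hxy
      exact hzero τ hτK hτ0 (sub_ne_zero.2 hxy) (by rw [Matrix.mulVec_sub]; exact sub_eq_zero.2 e)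
  have hcardV : Fintype.card Vec = q ^ 3 := by simp [hq]
  have hScard : S.card + 1 = q ^ 3 := by
    rw [hS, Finset.filter_ne', Finset.card_erase_of_mem (mem_univ _), Finset.card_univ, hcardV]
    have : 0 < q ^ 3 := pow_pos (by omega) 3
    omega
  have hsplit : ∀ T : Finset Vec, (∀ w ∈ T, w ≠ 0) → T.card =
      (T.filter (fun w => f w = 1)).card + (T.filter (fun w => f w = ω)).card +
        (T.filter (fun w => f w = ω ^ 2)).card := fun T hT => by
    rw [Finset.card_eq_sum_card_fiberwise (f := f) (t := R) (fun w hw => hfR (hT w hw)), hR,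
      Finset.sum_insert (by simp [Ne.symm hω1, Ne.symm hω2]), Finset.sum_pair hω12]
    ring
  have hG1 : 3 * (G 1).card + 1 = q ^ 3 := by
    have h1 := htrans 1
    have h2 := htrans ω
    have h3' := htrans (ω ^ 2)
    rw [mul_one] at h1
    rw [← pow_two] at h2
    rw [← pow_succ', hω.pow_eq_one] at h3'
    have := hsplit S (fun w hw => (mem_filter.1 hw).2)
    change S.card = (G 1).card + (G ω).card + (G (ω ^ 2)).card at this
    omega
  have hPcard : P.card + 1 = q ^ 2 := by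
    let L : Vec →ₗ[F] F := { toFun := fun w => φ ⬝ᵥ w, map_add' := dotProduct_add φ,
                             map_smul' := fun c w => dotProduct_smul c φ w }
    have hL : L ≠ 0 := fun e => hφ (funext fun i => by
      have := LinearMap.congr_fun e (Pi.single i 1)
      simpa [L] using this)
    have h1 : Module.finrank F (LinearMap.range L) = 1 := by
      rw [LinearMap.range_eq_top.2 (LinearMap.surjective hL), finrank_top, Module.finrank_self]
    have h2 := LinearMap.finrank_range_add_finrank_ker L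
    rw [h1, Module.finrank_fintype_fun_eq_card, Fintype.card_fin] at h2
    have h4 : Nat.card L.ker = q ^ 2 := by
      rw [Module.natCard_eq_pow_finrank (K := F), Nat.card_eq_fintype_card, show Module.finrank F L.ker = 2 by omega]
    have h5 : (univ.filter (fun w : Vec => φ ⬝ᵥ w = 0)).card = q ^ 2 := by
      rw [← h4, Nat.card_eq_fintype_card, Fintype.card_subtype]
      exact congrArg _ (Finset.filter_congr fun w _ => by simp [L])
    have h6 : P = (univ.filter (fun w : Vec => φ ⬝ᵥ w = 0)).erase 0 := by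
      ext w; simp [hP, hS, mem_erase]
    rw [h6, Finset.card_erase_of_mem (by simp), h5]
    have : 0 < q ^ 2 := pow_pos (by omega) 2
    omega
  -- the second moment
  have hlines : ∀ g ∈ K, ¬ (∃ c : F, g = c • 1) →
      (P.filter (fun w => φ ⬝ᵥ (g *ᵥ w) = 0)).card + 1 = q := by
    intro g hg hns
    let L : Vec →ₗ[F] (Fin 2 → F) :=
      { toFun := fun w => ![φ ⬝ᵥ w, (φ ᵥ* g) ⬝ᵥ w]
        map_add' := fun a b => by ext i; fin_cases i <;> simp [dotProduct_add]
        map_smul' := fun c a => by ext i; fin_cases i <;> simp [dotProduct_smul] }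
    have hsurj : LinearMap.range L = ⊤ := by
      by_contra hne
      have hle : Module.finrank F (LinearMap.range L) ≤ 1 := by
        have := Submodule.finrank_lt hne
        rw [Module.finrank_fintype_fun_eq_card, Fintype.card_fin] at this
        omega
      obtain ⟨i, hi⟩ := Function.ne_iff.1 hφ
      obtain ⟨u, hu⟩ := finrank_le_one_iff.1 hle
      refine hns ⟨(φ ᵥ* g) i / φ i, eq_scalar_left hK hg hφ (funext fun j => ?_)⟩
      obtain ⟨a, ha⟩ := hu ⟨L (Pi.single i 1), ⟨_, rfl⟩⟩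
      obtain ⟨b, hb⟩ := hu ⟨L (Pi.single j 1), ⟨_, rfl⟩⟩
      have a0 := congrArg (fun x : LinearMap.range L => (x : Fin 2 → F) 0) ha
      have a1 := congrArg (fun x : LinearMap.range L => (x : Fin 2 → F) 1) ha
      have b0 := congrArg (fun x : LinearMap.range L => (x : Fin 2 → F) 0) hb
      have b1 := congrArg (fun x : LinearMap.range L => (x : Fin 2 → F) 1) hb
      simp [L] at a0 a1 b0 b1
      rw [Pi.smul_apply, smul_eq_mul, ← a1, ← a0, ← b1, ← b0]
      have hu0 : (u : Fin 2 → F) 0 ≠ 0 := fun e => hi (by simpa [e] using a0.symm)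
      have ha0 : a ≠ 0 := fun e => hi (by simpa [e] using a0.symm)
      field_simp
    have h2 := LinearMap.finrank_range_add_finrank_ker L
    rw [hsurj, finrank_top, Module.finrank_fintype_fun_eq_card, Module.finrank_fintype_fun_eq_card,
      Fintype.card_fin, Fintype.card_fin] at h2
    have h4 : Nat.card L.ker = q := by
      rw [Module.natCard_eq_pow_finrank (K := F), Nat.card_eq_fintype_card, show Module.finrank F L.ker = 1 by omega,
        pow_one]
    have h6 : P.filter (fun w => φ ⬝ᵥ (g *ᵥ w) = 0) = (univ.filter (fun w : Vec => w ∈ L.ker)).erase 0 := by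
      ext w
      simp [hP, hS, mem_erase, L, funext_iff, Fin.forall_fin_two, dotProduct_mulVec, and_assoc]
    rw [h6, Finset.card_erase_of_mem (by simp), ← Fintype.card_subtype]
    rw [Nat.card_eq_fintype_card] at h4
    rw [h4]; omega
  have hscal : (G 1).filter (fun w => ∃ c : F, κ w = c • 1) =
      (univ.erase (0 : F)).image (fun c => c • v) := by
    ext w
    simp only [hG, hS, mem_filter, mem_univ, true_and, mem_image, mem_erase, and_true]
    constructor
    · rintro ⟨⟨hw, -⟩, c, hc⟩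
      refine ⟨c, fun e => hκ0 hw (by rw [hc, e, zero_smul]), ?_⟩
      rw [← hκv w, hc, Matrix.smul_mulVec, one_mulVec]
    · rintro ⟨c, hc, rfl⟩
      have e : κ (c • v) = c • 1 := (huniq _ (K.smul_mem K.one_mem c) _ (by rw [Matrix.smul_mulVec, one_mulVec])).symm
      refine ⟨⟨smul_ne_zero hc hv, ?_⟩, c, e⟩
      rw [hsmul c hc]
      show cl (κ v) = 1
      rw [← huniq 1 K.one_mem v (one_mulVec v)]
      simp [cl]
  have hscard : ((G 1).filter (fun w => ∃ c : F, κ w = c • 1)).card = q - 1 := by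
    rw [hscal, Finset.card_image_of_injective _ (smul_left_injective F hv),
      Finset.card_erase_of_mem (mem_univ _), Finset.card_univ]
  have hpairs : ((P ×ˢ P).filter (fun p => f p.1 = f p.2)).card =
      ∑ u ∈ G 1, (P.filter (fun w => φ ⬝ᵥ (κ u *ᵥ w) = 0)).card := by
    rw [← Finset.card_sigma]
    refine (Finset.card_bij (fun s _ => (s.2, κ s.1 *ᵥ s.2)) ?_ ?_ ?_).symm
    · intro s hs
      simp only [mem_sigma, hG, hS, hP, mem_filter, mem_univ, true_and, mem_product] at hs ⊢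
      refine ⟨⟨⟨hs.2.1.1, hs.2.1.2⟩, hzero _ (hκK _) (hκ0 hs.1.1) hs.2.1.1, hs.2.2⟩, ?_⟩
      rw [hmul _ (hκK _), show cl (κ s.1) = 1 from hs.1.2, one_mul]
    · intro s hs t ht e
      simp only [Prod.mk.injEq] at e
      obtain ⟨e1, e2⟩ := e
      simp only [mem_sigma, hP, hS, mem_filter, mem_univ, true_and] at hs
      obtain ⟨s1, s2⟩ := s
      obtain ⟨t1, t2⟩ := t
      simp only at e1 e2 hs
      subst e1
      have : κ s1 = κ t1 := sub_eq_zero.1 (by
        simpa using eq_scalar hK (K.sub_mem (hκK s1) (hκK t1)) hs.2.1.1 (c := 0)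
          (by rw [zero_smul, Matrix.sub_mulVec, e2, sub_self]))
      have h' : s1 = t1 := by rw [← hκv s1, this, hκv]
      rw [h']
    · intro p hp
      simp only [hP, hS, mem_filter, mem_univ, true_and, mem_product] at hp
      obtain ⟨g, hg, e⟩ := exists_mulVec hK hp.1.1.1 p.2
      have hg0 : g ≠ 0 := fun h => hp.1.2.1 (by rw [← e, h, zero_mulVec])
      have hk : κ (g *ᵥ v) = g := (huniq g hg _ rfl).symm
      refine ⟨⟨g *ᵥ v, p.1⟩, ?_, by simp [hk, e]⟩
      simp only [mem_sigma, hG, hS, hP, mem_filter, mem_univ, true_and]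
      refine ⟨⟨hzero g hg hg0 hv, ?_⟩, ⟨hp.1.1.1, hp.1.1.2⟩, by rw [hk, e]; exact hp.1.2.2⟩
      show cl (κ (g *ᵥ v)) = 1
      rw [hk]
      have h := hmul g hg p.1
      rw [e, ← hp.2] at h
      exact (mul_eq_right₀ (fun h0 => by
        have := hf3 hp.1.1.1; rw [h0] at this; simp at this)).1 h.symm
  have hsq : ((P ×ˢ P).filter (fun p => f p.1 = f p.2)).card =
      (A 1).card ^ 2 + (A ω).card ^ 2 + (A (ω ^ 2)).card ^ 2 := by
    have hR' : ∀ p ∈ (P ×ˢ P).filter (fun p => f p.1 = f p.2), f p.1 ∈ R := fun p hp =>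
      hfR (mem_filter.1 (mem_filter.1 (mem_product.1 (mem_filter.1 hp).1).1).1).2
    rw [Finset.card_eq_sum_card_fiberwise (f := fun p : Vec × Vec => f p.1) (t := R) hR']
    have : ∀ z, (((P ×ˢ P).filter (fun p => f p.1 = f p.2)).filter (fun p => f p.1 = z)).card = (A z).card ^ 2 := fun z => by
      rw [pow_two, ← Finset.card_product]
      congr 1
      ext p
      simp only [hA, mem_filter, mem_product]
      constructor
      · rintro ⟨⟨⟨a, b⟩, e⟩, e'⟩; exact ⟨⟨a, e'⟩, b, e.symm.trans e'⟩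
      · rintro ⟨⟨a, e⟩, b, e'⟩; exact ⟨⟨⟨a, b⟩, e.trans e'.symm⟩, e⟩
    simp only [this, hR]
    rw [Finset.sum_insert (by simp [Ne.symm hω1, Ne.symm hω2]), Finset.sum_pair hω12]
    ring
  -- divisibility by the number of scalars
  have hdiv : ∀ z, q - 1 ∣ (A z).card := fun z => by
    rw [Finset.card_eq_sum_card_image (fun w : Vec => Submodule.span F {w})]
    refine Finset.dvd_sum fun l hl => ?_
    obtain ⟨w, hw, rfl⟩ := mem_image.1 hl
    simp only [hA, hP, hS, mem_filter, mem_univ, true_and] at hw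
    have : (A z).filter (fun x => Submodule.span F {x} = Submodule.span F {w}) =
        (univ.erase (0 : F)).image (fun c => c • w) := by
      ext x
      simp only [hA, hP, hS, mem_filter, mem_univ, true_and, mem_image, mem_erase, and_true]
      constructor
      · rintro ⟨⟨⟨hx, -⟩, -⟩, e⟩
        obtain ⟨c, hc⟩ := Submodule.mem_span_singleton.1 (e ▸ Submodule.mem_span_singleton_self x)
        exact ⟨c, fun h => hx (by rw [← hc, h, zero_smul]), hc⟩
      · rintro ⟨c, hc, rfl⟩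
        refine ⟨⟨⟨smul_ne_zero hc hw.1.1, ?_⟩, ?_⟩, ?_⟩
        · rw [dotProduct_smul, hw.1.2, smul_zero]
        · rw [hsmul c hc, hw.2]
        · exact Submodule.span_singleton_smul_eq (IsUnit.mk0 c hc) w
    rw [this, Finset.card_image_of_injective _ (smul_left_injective F hw.1.1),
      Finset.card_erase_of_mem (mem_univ _), Finset.card_univ]
  obtain ⟨n, hn⟩ := hdiv 1
  obtain ⟨n₁, hn₁⟩ := hdiv ω
  obtain ⟨n₂, hn₂⟩ := hdiv (ω ^ 2)
  refine ⟨n, n₁, n₂, ?_, ?_, ?_, ?_⟩
  · rw [mul_comm n, ← hn, Nat.card_eq_fintype_card, Fintype.card_subtype]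
    congr 1
    ext w
    simp only [hA, hP, hS, mem_filter, mem_univ, true_and]
    exact ⟨fun ⟨a, b, c⟩ => ⟨⟨a, b⟩, (hOrb a).1 c⟩, fun ⟨⟨a, b⟩, c⟩ => ⟨a, b, (hOrb a).2 c⟩⟩
  · have h := hsplit P (fun w hw => (mem_filter.1 (mem_filter.1 hw).1).2)
    change P.card = (A 1).card + (A ω).card + (A (ω ^ 2)).card at h
    rw [hn, hn₁, hn₂] at h
    obtain ⟨a, ha⟩ : ∃ a, q = a + 1 := ⟨q - 1, by omega⟩
    rw [ha] at hPcard h ⊢
    simp only [Nat.add_sub_cancel] at h
    apply Nat.eq_of_mul_eq_mul_left (show 0 < a by omega)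
    linarith [hPcard, h]
  · have hsum : (∑ u ∈ G 1, (P.filter (fun w => φ ⬝ᵥ (κ u *ᵥ w) = 0)).card) =
        (q - 1) * P.card + ((G 1).card - (q - 1)) * (q - 1) := by
      rw [← Finset.sum_filter_add_sum_filter_not (G 1) (fun w => ∃ c : F, κ w = c • 1)]
      congr 1
      · rw [Finset.sum_const_nat (m := P.card) ?_, hscard]
        intro u hu
        obtain ⟨c, hc⟩ := (mem_filter.1 hu).2
        rw [Finset.filter_true_of_mem fun w hw => ?_]
        rw [hc, Matrix.smul_mulVec, one_mulVec, dotProduct_smul, (mem_filter.1 hw).2, smul_zero]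
      · rw [Finset.sum_const_nat (m := q - 1) ?_]
        · congr 1
          have := Finset.card_filter_add_card_filter_not (s := G 1) (fun w => ∃ c : F, κ w = c • 1)
          omega
        intro u hu
        have := hlines (κ u) (hκK u) (mem_filter.1 hu).2
        omega
    have hge : q - 1 ≤ (G 1).card := hscard ▸ Finset.card_filter_le _ _
    obtain ⟨a, ha⟩ : ∃ a, q = a + 1 := ⟨q - 1, by omega⟩
    have h := hpairs.symm.trans hsq
    rw [hsum, hn, hn₁, hn₂] at h
    rw [ha] at hG1 hPcard hge h ⊢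
    simp only [Nat.add_sub_cancel] at h hge
    obtain ⟨b, hb⟩ := Nat.exists_eq_add_of_le hge
    rw [hb, Nat.add_sub_cancel_left] at h
    rw [hb] at hG1
    apply Nat.eq_of_mul_eq_mul_left (pow_pos (show 0 < a by omega) 2)
    zify at h hG1 hPcard ⊢
    linear_combination -3 * h + 3 * (a : ℤ) * hPcard + (a : ℤ) * hG1
  · intro R hR0 hRO
    have hOrbR : ∀ {w : Vec}, w ≠ 0 → (Orb K R w ↔ f w = f R) := by
      intro w hw
      obtain ⟨k, hk, e⟩ := exists_mulVec hK hR0 w
      have hk0 : k ≠ 0 := fun h => hw (by rw [← e, h, zero_mulVec])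
      have hfR0 : f R ≠ 0 := fun h0 => by have := hf3 hR0; rw [h0] at this; simp at this
      have hfw : f w = cl k * f R := by rw [← hmul k hk, e]
      constructor
      · rintro ⟨k', hk', h0', hc, e'⟩
        rw [e', hmul k' hk', (cl_cube h3 (det_ne_zero hK hk' h0')).1 hc, one_mul]
      · intro h
        refine ⟨k, hk, hk0, (cl_cube h3 (det_ne_zero hK hk hk0)).2 ?_, e.symm⟩
        rw [hfw] at h
        exact (mul_eq_right₀ hfR0).1 h
    have hcard : Nat.card {w : Fin 3 → F // w ≠ 0 ∧ φ ⬝ᵥ w = 0 ∧ Orb K R w} = (A (f R)).card := by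
      rw [Nat.card_eq_fintype_card, Fintype.card_subtype]
      congr 1
      ext w
      simp only [hA, hP, hS, mem_filter, mem_univ, true_and]
      exact ⟨fun ⟨a, b, c⟩ => ⟨⟨a, b⟩, (hOrbR a).1 c⟩, fun ⟨⟨a, b⟩, c⟩ => ⟨a, b, (hOrbR a).2 c⟩⟩
    rcases hroots _ (hf3 hR0) with h | h | h
    · exact absurd ((hOrb hR0).2 h) hRO
    · left; rw [hcard, h, hn₁, mul_comm]
    · right; rw [hcard, h, hn₂, mul_comm]

theorem three_sums (hK : Cfsg.Geo.IsFieldSubalgebra 3 K) (h3 : Fintype.card F % 3 = 1) {φ v : Vec}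
    (hφ : φ ≠ 0) (hv : v ≠ 0) :
    ∃ n n₁ n₂ : ℕ, Nat.card {w : Fin 3 → F // w ≠ 0 ∧ φ ⬝ᵥ w = 0 ∧ Orb K v w} = n * (Fintype.card F - 1) ∧
      n + n₁ + n₂ = Fintype.card F + 1 ∧
      3 * (n ^ 2 + n₁ ^ 2 + n₂ ^ 2) = Fintype.card F ^ 2 + 4 * Fintype.card F + 1 := by
  obtain ⟨n, n₁, n₂, h1, h2, h4, -⟩ := three_classes hK h3 hφ hv
  exact ⟨n, n₁, n₂, h1, h2, h4⟩

end Cfsg.Agent.Forms.Max.SL3.Singer.Count
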