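import Mathlib
import Cfsg.Agent.Lib.Forms.Max.SL3.Singer.Count

/-!
# Involutions give a transvection centre with two axes
-/

set_option autoImplicit false
set_option linter.unusedSectionVars false

namespace Cfsg.Agent.Forms.Max.SL3.Singer.Thin

open Matrix

variable {F : Type*} [Field F] [Fintype F]
variable {K : Subalgebra F (Matrix (Fin 3) (Fin 3) F)} {M : Subgroup (GL (Fin 3) F)}

local notation "Mat" => Matrix (Fin 3) (Fin 3) F
local notation "Vec" => (Fin 3 → F)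
local notation "GL3" => GL (Fin 3) F

/-- elements of determinant one of the field -/
def InC (K : Subalgebra F (Matrix (Fin 3) (Fin 3) F)) (g : GL (Fin 3) F) : Prop :=
  (g : Matrix (Fin 3) (Fin 3) F) ∈ K ∧ (g : Matrix (Fin 3) (Fin 3) F).det = 1

theorem InC.inv (hK : Cfsg.Geo.IsFieldSubalgebra 3 K) {g : GL3} (h : InC K g) : InC K g⁻¹ := by
  obtain ⟨y, hy, e⟩ := hK.inv _ h.1 (Units.ne_zero g)
  have : ((g⁻¹ : GL3) : Mat) = y := Units.inv_eq_of_mul_eq_one_right e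
  refine ⟨this ▸ hy, ?_⟩
  have := congrArg Matrix.det g.inv_mul
  rwa [Matrix.det_mul, h.2, mul_one, Matrix.det_one] at this

theorem InC.mul {g h : GL3} (hg : InC K g) (hh : InC K h) : InC K (g * h) :=
  ⟨K.mul_mem hg.1 hh.1, by rw [Units.val_mul, Matrix.det_mul, hg.2, hh.2, mul_one]⟩

theorem exists_inC (hK : Cfsg.Geo.IsFieldSubalgebra 3 K) {v w : Vec} (h : Orb K v w) :
    ∃ g, InC K g ∧ ∃ c : F, c ≠ 0 ∧ w = c • ((g : Mat) *ᵥ v) := by
  obtain ⟨k, hk, h0, ⟨c, hc⟩, rfl⟩ := h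
  have hc0 : c ≠ 0 := fun e => det_ne_zero hK hk h0 (by rw [hc, e]; ring)
  obtain ⟨g, hg, -⟩ := exists_gl hK (K.smul_mem hk c⁻¹) (smul_ne_zero (inv_ne_zero hc0) h0)
  refine ⟨g, ⟨hg ▸ K.smul_mem hk c⁻¹, ?_⟩, c, hc0, ?_⟩
  · rw [hg, Matrix.det_smul, hc, Fintype.card_fin, inv_pow, inv_mul_cancel₀ (pow_ne_zero _ hc0)]
  · rw [hg, Matrix.smul_mulVec, smul_inv_smul₀ hc0]

theorem InC.orb {g : GL3} (h : InC K g) (v : Vec) {c : F} (hc : c ≠ 0) :
    Orb K v (c • ((g : Mat) *ᵥ v)) :=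
  ⟨c • (g : Mat), K.smul_mem h.1 c, smul_ne_zero hc (Units.ne_zero g),
    ⟨c, by rw [Matrix.det_smul, h.2, mul_one, Fintype.card_fin]⟩, (Matrix.smul_mulVec _ _ _).symm⟩

theorem ker_card {φ : Vec} (hφ : φ ≠ 0) : Nat.card {w : Vec // w ≠ 0 ∧ φ ⬝ᵥ w = 0} + 1 = Fintype.card F ^ 2 := by
  classical
  let L : Vec →ₗ[F] F := { toFun := fun w => φ ⬝ᵥ w, map_add' := dotProduct_add φ,
                           map_smul' := fun c w => dotProduct_smul c φ w }
  have hL : L ≠ 0 := fun e => hφ (funext fun i => by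
    have := LinearMap.congr_fun e (Pi.single i 1)
    simpa [L] using this)
  have h2 := LinearMap.finrank_range_add_finrank_ker L
  rw [LinearMap.range_eq_top.2 (LinearMap.surjective hL), finrank_top, Module.finrank_self,
    Module.finrank_fintype_fun_eq_card, Fintype.card_fin] at h2
  have h4 : Nat.card L.ker = Fintype.card F ^ 2 := by
    rw [Module.natCard_eq_pow_finrank (K := F), Nat.card_eq_fintype_card, show Module.finrank F L.ker = 2 by omega]
  have h5 : Nat.card {w : Vec // φ ⬝ᵥ w = 0} = Fintype.card F ^ 2 := by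
    rw [← h4]; exact Nat.card_congr (Equiv.subtypeEquivRight fun w => by simp [L])
  rw [Nat.card_eq_fintype_card, Fintype.card_subtype] at h5
  rw [Nat.card_eq_fintype_card, Fintype.card_subtype]
  have e : (Finset.univ.filter fun w : Vec => w ≠ 0 ∧ φ ⬝ᵥ w = 0) =
      (Finset.univ.filter fun w : Vec => φ ⬝ᵥ w = 0).erase 0 := by ext w; simp
  rw [e, Finset.card_erase_of_mem (by simp), h5]
  have : 0 < Fintype.card F ^ 2 := pow_pos Fintype.card_pos 2
  omega

theorem prop_of_two {φ ψ a b : Vec} (hφ : φ ≠ 0) (ha : a ≠ 0) (hb : ∀ c : F, b ≠ c • a)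
    (h1 : φ ⬝ᵥ a = 0) (h2 : φ ⬝ᵥ b = 0) (h3 : ψ ⬝ᵥ a = 0) (h4 : ψ ⬝ᵥ b = 0) : ∃ c : F, ψ = c • φ := by
  let L : Vec →ₗ[F] F := { toFun := fun w => φ ⬝ᵥ w, map_add' := dotProduct_add φ,
                           map_smul' := fun c w => dotProduct_smul c φ w }
  have hL : L ≠ 0 := fun e => hφ (funext fun i => by
    have := LinearMap.congr_fun e (Pi.single i 1)
    simpa [L] using this)
  obtain ⟨p, hp⟩ := LinearMap.surjective hL 1
  have hker := LinearMap.finrank_range_add_finrank_ker L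
  rw [LinearMap.range_eq_top.2 (LinearMap.surjective hL), finrank_top, Module.finrank_self,
    Module.finrank_fintype_fun_eq_card, Fintype.card_fin] at hker
  have hli : LinearIndependent F ![a, b] :=
    (LinearIndependent.pair_iff' ha).2 fun c h => hb c h.symm
  have heq : Submodule.span F (Set.range ![a, b]) = L.ker := by
    refine Submodule.eq_of_le_of_finrank_le (Submodule.span_le.2 ?_) ?_
    · rintro _ ⟨i, rfl⟩
      fin_cases i
      · exact h1
      · exact h2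
    · rw [finrank_span_eq_card hli, Fintype.card_fin]; omega
  refine ⟨ψ ⬝ᵥ p, funext fun i => ?_⟩
  have hmem : Pi.single i 1 - φ i • p ∈ L.ker := by
    show φ ⬝ᵥ (Pi.single i 1 - φ i • p) = 0
    have hp' : φ ⬝ᵥ p = 1 := hp
    rw [dotProduct_sub, dotProduct_smul, hp', dotProduct_single_one, smul_eq_mul, mul_one, sub_self]
  rw [← heq, Matrix.range_cons_cons_empty, Submodule.mem_span_pair] at hmem
  obtain ⟨s, t, e⟩ := hmem
  have := congrArg (ψ ⬝ᵥ ·) e
  simp only [dotProduct_add, dotProduct_sub, dotProduct_smul, h3, h4, dotProduct_single_one, smul_zero,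
    add_zero, smul_eq_mul] at this
  rw [Pi.smul_apply, smul_eq_mul]
  linear_combination -this

/-- two functionals related by a field element -/
theorem scalar_of_prop (hK : Cfsg.Geo.IsFieldSubalgebra 3 K) {φ : Vec} (hφ : φ ≠ 0) {g : GL3} (hg : InC K g) {c : F}
    (h : φ ᵥ* (g : Mat) = c • φ) : (g : Mat) = c • 1 :=
  eq_scalar_left hK hg.1 hφ h

theorem line_subset_two (hK : Cfsg.Geo.IsFieldSubalgebra 3 K) {u φ : Vec} (hu : u ≠ 0) (hφ : φ ≠ 0)
    (hsym : ∀ g, InC K g → φ ⬝ᵥ ((g : Mat) *ᵥ u) = 0 → φ ⬝ᵥ (((g⁻¹ : GL3) : Mat) *ᵥ u) = 0)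
    {a : GL3} (ha : InC K a) (hau : φ ⬝ᵥ ((a : Mat) *ᵥ u) = 0) {b : GL3} (hb : InC K b)
    (hbu : φ ⬝ᵥ ((b : Mat) *ᵥ u) = 0) :
    (∃ c : F, (b : Mat) *ᵥ u = c • ((a : Mat) *ᵥ u)) ∨ ∃ c : F, (b : Mat) *ᵥ u = c • (((a⁻¹ : GL3) : Mat) *ᵥ u) := by
  by_cases h : ∃ c : F, (b : Mat) *ᵥ u = c • ((a : Mat) *ᵥ u)
  · exact Or.inl h
  push Not at h
  refine Or.inr ?_
  have he := (ha.mul hb).inv hK
  have hcomm : ∀ x y : GL3, InC K x → InC K y → x * y = y * x := fun x y hx hy =>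
    Units.ext (hK.comm _ hx.1 _ hy.1)
  have e1 : (φ ᵥ* (((a * b)⁻¹ : GL3) : Mat)) ⬝ᵥ ((a : Mat) *ᵥ u) = 0 := by
    rw [← dotProduct_mulVec, ← Max.mulVec_mul_GL, _root_.mul_inv_rev, mul_assoc, inv_mul_cancel, mul_one]
    exact hsym b hb hbu
  have e2 : (φ ᵥ* (((a * b)⁻¹ : GL3) : Mat)) ⬝ᵥ ((b : Mat) *ᵥ u) = 0 := by
    rw [← dotProduct_mulVec, ← Max.mulVec_mul_GL, hcomm a b ha hb, _root_.mul_inv_rev, mul_assoc, inv_mul_cancel, mul_one]
    exact hsym a ha hau
  obtain ⟨c, hc⟩ := prop_of_two hφ (Max.mulVec_ne_zero a hu) h hau hbu e1 e2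
  have hs := scalar_of_prop hK hφ he hc
  refine ⟨c⁻¹, ?_⟩
  have hc0 : c ≠ 0 := fun e => Units.ne_zero ((a * b)⁻¹) (by rw [hs, e, zero_smul])
  have : ((a⁻¹ : GL3) : Mat) *ᵥ u = c • ((b : Mat) *ᵥ u) := by
    have h2 : (((a * b)⁻¹ * b : GL3) : Mat) *ᵥ u = c • ((b : Mat) *ᵥ u) := by
      rw [Max.mulVec_mul_GL, hs, Matrix.smul_mulVec, one_mulVec]
    rw [hcomm a b ha hb, _root_.mul_inv_rev, mul_assoc, inv_mul_cancel, mul_one] at h2
    exact h2
  rw [this, inv_smul_smul₀ hc0]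

theorem card_le_two {φ a b : Vec} (P : Vec → Prop)
    (h : ∀ w, w ≠ 0 → φ ⬝ᵥ w = 0 → P w → (∃ c : F, w = c • a) ∨ ∃ c : F, w = c • b) :
    Nat.card {w : Vec // w ≠ 0 ∧ φ ⬝ᵥ w = 0 ∧ P w} ≤ 2 * (Fintype.card F - 1) := by
  classical
  rw [Nat.card_eq_fintype_card, Fintype.card_subtype]
  refine (Finset.card_le_card (t := (Finset.univ.erase (0 : F)).image (fun c => c • a) ∪
    (Finset.univ.erase (0 : F)).image (fun c => c • b)) fun w hw => ?_).trans ?_
  · simp only [Finset.mem_filter, Finset.mem_univ, true_and] at hw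
    simp only [Finset.mem_union, Finset.mem_image, Finset.mem_erase, Finset.mem_univ, and_true]
    rcases h w hw.1 hw.2.1 hw.2.2 with ⟨c, rfl⟩ | ⟨c, rfl⟩
    · exact Or.inl ⟨c, fun e => hw.1 (by rw [e, zero_smul]), rfl⟩
    · exact Or.inr ⟨c, fun e => hw.1 (by rw [e, zero_smul]), rfl⟩
  · refine (Finset.card_union_le _ _).trans ?_
    have : ((Finset.univ : Finset F).erase 0).card = Fintype.card F - 1 := by
      rw [Finset.card_erase_of_mem (Finset.mem_univ _), Finset.card_univ]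
    have h1 := Finset.card_image_le (s := (Finset.univ : Finset F).erase 0) (f := fun c => c • a)
    have h2 := Finset.card_image_le (s := (Finset.univ : Finset F).erase 0) (f := fun c => c • b)
    omega

theorem card_le_one {φ a : Vec} (P : Vec → Prop)
    (h : ∀ w, w ≠ 0 → φ ⬝ᵥ w = 0 → P w → ∃ c : F, w = c • a) :
    Nat.card {w : Vec // w ≠ 0 ∧ φ ⬝ᵥ w = 0 ∧ P w} ≤ Fintype.card F - 1 := by
  classical
  rw [Nat.card_eq_fintype_card, Fintype.card_subtype]
  refine (Finset.card_le_card (t := (Finset.univ.erase (0 : F)).image (fun c => c • a)) fun w hw => ?_).trans ?_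
  · simp only [Finset.mem_filter, Finset.mem_univ, true_and] at hw
    simp only [Finset.mem_image, Finset.mem_erase, Finset.mem_univ, and_true]
    obtain ⟨c, rfl⟩ := h w hw.1 hw.2.1 hw.2.2
    exact ⟨c, fun e => hw.1 (by rw [e, zero_smul]), rfl⟩
  · refine Finset.card_image_le.trans ?_
    rw [Finset.card_erase_of_mem (Finset.mem_univ _), Finset.card_univ]

theorem card_ge (P : Vec → Prop) {φ : Vec} (s : Finset Vec) (hs : ∀ a ∈ s, a ≠ 0 ∧ φ ⬝ᵥ a = 0 ∧ ∀ c : F, c ≠ 0 → P (c • a))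
    (hind : ∀ a ∈ s, ∀ b ∈ s, ∀ c : F, b = c • a → a = b) :
    s.card * (Fintype.card F - 1) ≤ Nat.card {w : Vec // w ≠ 0 ∧ φ ⬝ᵥ w = 0 ∧ P w} := by
  classical
  rw [Nat.card_eq_fintype_card, Fintype.card_subtype]
  refine le_trans (le_of_eq ?_) (Finset.card_le_card
    (s := ((s ×ˢ (Finset.univ.erase (0 : F))).image (fun p => p.2 • p.1))) fun w hw => ?_)
  · rw [Finset.card_image_of_injOn, Finset.card_product, Finset.card_erase_of_mem (Finset.mem_univ _), Finset.card_univ]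
    rintro ⟨a, c⟩ hp ⟨b, d⟩ hp' (e : c • a = d • b)
    simp only [Finset.coe_product, Set.mem_prod, Finset.mem_coe, Finset.mem_erase] at hp hp'
    have hab : b = (d⁻¹ * c) • a := by rw [← smul_smul, e, inv_smul_smul₀ hp'.2.1]
    obtain rfl := hind a hp.1 b hp'.1 _ hab
    rw [Prod.mk.injEq]
    exact ⟨rfl, smul_left_injective F (hs a hp.1).1 e⟩
  · simp only [Finset.mem_image, Finset.mem_product, Finset.mem_erase, Finset.mem_univ, and_true] at hw
    obtain ⟨⟨a, c⟩, ⟨ha, hc⟩, rfl⟩ := hw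
    simp only [Finset.mem_filter, Finset.mem_univ, true_and]
    exact ⟨smul_ne_zero hc (hs a ha).1, by rw [dotProduct_smul, (hs a ha).2.1, smul_zero], (hs a ha).2.2 c hc⟩

theorem one_mem_inC : InC K (1 : GL3) := ⟨by rw [Units.val_one]; exact K.one_mem, by rw [Units.val_one, Matrix.det_one]⟩

/-- not every orbit line meets just the base point -/
theorem exists_off (hK : Cfsg.Geo.IsFieldSubalgebra 3 K) (h3 : Fintype.card F % 3 = 1) {u : Vec} (hu : u ≠ 0) :
    ∃ g, InC K g ∧ ∀ c : F, (g : Mat) *ᵥ u ≠ c • u := by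
  obtain ⟨i, hi⟩ := Function.ne_iff.1 hu
  have hne : (Pi.single i 1 : Vec) ≠ 0 := fun e => by simpa using congrFun e i
  obtain ⟨n, n₁, n₂, hn, hs, hq⟩ := Count.three_sums hK h3 hne hu
  by_contra hcon
  push Not at hcon
  have hn0 : n = 0 := by
    by_contra h0
    have : 0 < Nat.card {w : Fin 3 → F // w ≠ 0 ∧ (Pi.single i 1 : Vec) ⬝ᵥ w = 0 ∧ Orb K u w} := by
      rw [hn]; exact Nat.mul_pos (Nat.pos_of_ne_zero h0) (by have := Fintype.one_lt_card (α := F); omega)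
    obtain ⟨⟨w, hw, hw0, ho⟩⟩ := (Nat.card_pos_iff.1 this).1
    obtain ⟨g, hg, c, -, rfl⟩ := exists_inC hK ho
    obtain ⟨d, hd⟩ := hcon g hg
    rw [hd, dotProduct_smul, dotProduct_smul, single_one_dotProduct, smul_eq_mul, smul_eq_mul] at hw0
    rcases mul_eq_zero.1 hw0 with h | h
    · exact hw (by rw [h, zero_smul])
    · rcases mul_eq_zero.1 h with h | h
      · exact hw (by rw [hd, h, zero_smul, smul_zero])
      · exact hi h
  subst hn0
  have := Fintype.one_lt_card (α := F)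
  nlinarith [sq_nonneg ((n₁ : ℤ) - n₂), hs, hq]

/-- `m` acts as the homology with centre `u` and functional `φ` -/
def Hom (M : Subgroup (GL (Fin 3) F)) (u φ : Fin 3 → F) : Prop :=
  φ ⬝ᵥ u = 2 ∧ ∃ m ∈ M, ∀ x, (m : Matrix (Fin 3) (Fin 3) F) *ᵥ x = (φ ⬝ᵥ x) • u - x

theorem Hom.conj {u φ : Vec} (h : Hom M u φ) {g : GL3} (hg : g ∈ M) :
    Hom M ((g : Mat) *ᵥ u) (φ ᵥ* ((g⁻¹ : GL3) : Mat)) := by
  obtain ⟨h0, m, hm, e⟩ := h
  refine ⟨by rw [← dotProduct_mulVec, Max.inv_mulVec_cancel, h0], g * m * g⁻¹, mul_mem (mul_mem hg hm) (inv_mem hg),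
    fun x => ?_⟩
  rw [Max.mulVec_mul_GL, Max.mulVec_mul_GL, e, Matrix.mulVec_sub, Matrix.mulVec_smul, Max.mulVec_inv_cancel,
    ← dotProduct_mulVec]

theorem tr_orbit {u φ : Vec} (huq : ∀ ψ, Tr M u ψ → ∃ c : F, ψ = c • φ) {h : GL3} (hh : h ∈ M) {ψ : Vec}
    (hψ : Tr M ((h : Mat) *ᵥ u) ψ) : ∃ c : F, ψ = c • (φ ᵥ* ((h⁻¹ : GL3) : Mat)) := by
  have h1 := hψ.conj (inv_mem hh)
  rw [Max.inv_mulVec_cancel, inv_inv] at h1
  obtain ⟨c, hc⟩ := huq _ h1
  refine ⟨c, ?_⟩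
  rw [← Matrix.smul_vecMul, ← hc, Matrix.vecMul_vecMul, Units.mul_inv, Matrix.vecMul_one]

/-- the axis of another centre on the axis passes through the first centre -/
theorem tr_sym {u φ : Vec} (hφ : φ ≠ 0) (h : Tr M u φ) (huq : ∀ ψ, Tr M u ψ → ∃ c : F, ψ = c • φ) {g : GL3}
    (hg : g ∈ M) (hgu : φ ⬝ᵥ ((g : Mat) *ᵥ u) = 0) : φ ⬝ᵥ (((g⁻¹ : GL3) : Mat) *ᵥ u) = 0 := by
  set ψ := φ ᵥ* ((g⁻¹ : GL3) : Mat) with hψ
  have hQ : Tr M ((g : Mat) *ᵥ u) ψ := h.conj hg
  by_contra hne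
  rw [dotProduct_mulVec, ← hψ] at hne
  obtain ⟨c, hc⟩ := tr_orbit huq hg (hQ.comm h hgu)
  rw [← hψ] at hc
  have hc' : φ = ((ψ ⬝ᵥ u)⁻¹ * c) • ψ := by rw [← smul_smul, ← hc, inv_smul_smul₀ hne]
  have h0 := h.1
  rw [hc', smul_dotProduct, smul_eq_mul, mul_eq_zero] at h0
  rcases h0 with h0 | h0
  · exact hφ (by rw [hc', h0, zero_smul])
  · exact hne h0

/-- a transvection centre with a single axis is impossible -/
theorem not_unique_tr (hK : Cfsg.Geo.IsFieldSubalgebra 3 K) (h4 : Fintype.card F ≠ 4) (hM : CycIn K M) {u φ : Vec}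
    (hu : u ≠ 0) (hφ : φ ≠ 0) (h : Tr M u φ) (huq : ∀ ψ, Tr M u ψ → ∃ c : F, ψ = c • φ) : False := by
  classical
  have hmem : ∀ g, InC K g → g ∈ M := fun g hg => hM g hg.1 hg.2
  have hfew : ∀ g, InC K g → φ ⬝ᵥ ((g : Mat) *ᵥ u) = 0 → ∃ c : F, (g : Mat) *ᵥ u = c • u := fun g hg hgu => by
    rcases line_subset_two hK hu hφ (fun g hg => tr_sym hφ h huq (hmem g hg)) (one_mem_inC (K := K))
      (by rw [Units.val_one, one_mulVec]; exact h.1) hg hgu with ⟨c, hc⟩ | ⟨c, hc⟩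
    · exact ⟨c, by rwa [Units.val_one, one_mulVec] at hc⟩
    · exact ⟨c, by rwa [inv_one, Units.val_one, one_mulVec] at hc⟩
  have hsub : ∀ w, w ≠ 0 → φ ⬝ᵥ w = 0 → Orb K u w → ∃ c : F, w = c • u := fun w hw hw0 ho => by
    obtain ⟨g, hg, c, hc, rfl⟩ := exists_inC hK ho
    rw [dotProduct_smul, smul_eq_mul, mul_eq_zero] at hw0
    obtain ⟨d, hd⟩ := hfew g hg (hw0.resolve_left hc)
    exact ⟨c * d, by rw [hd, smul_smul]⟩
  have hle := card_le_one (φ := φ) (Orb K u) hsub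
  have hq := Fintype.one_lt_card (α := F)
  have hself : ∀ c : F, c ≠ 0 → Orb K u (c • u) := fun c hc => by
    simpa using (one_mem_inC (K := K)).orb u hc
  by_cases h3 : Fintype.card F % 3 = 1
  swap
  · have h1 := ker_card hφ
    have h2 : Nat.card {w : Vec // w ≠ 0 ∧ φ ⬝ᵥ w = 0} = Nat.card {w : Vec // w ≠ 0 ∧ φ ⬝ᵥ w = 0 ∧ Orb K u w} :=
      Nat.card_congr (Equiv.subtypeEquivRight fun w =>
        ⟨fun ⟨a, b⟩ => ⟨a, b, Count.all_orb hK h3 hu a⟩, fun ⟨a, b, _⟩ => ⟨a, b⟩⟩)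
    rw [h2] at h1
    have : Fintype.card F * 2 ≤ Fintype.card F ^ 2 := by rw [pow_two]; exact Nat.mul_le_mul_left _ hq
    omega
  obtain ⟨n, n₁, n₂, hn, hs, hq2, hcls⟩ := Count.three_classes hK h3 hφ hu
  have hn1 : n = 1 := by
    have hge := card_ge (Orb K u) (φ := φ) {u} (fun a ha => by
      rw [Finset.mem_singleton] at ha; subst ha; exact ⟨hu, h.1, hself⟩)
      (fun a ha b hb c _ => (Finset.mem_singleton.1 ha).trans (Finset.mem_singleton.1 hb).symm)
    rw [hn, Finset.card_singleton] at hge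
    rw [hn] at hle
    nth_rw 2 [← one_mul (Fintype.card F - 1)] at hle
    exact le_antisymm (Nat.le_of_mul_le_mul_right hle (by omega)) (Nat.le_of_mul_le_mul_right hge (by omega))
  subst hn1
  have h7 : Fintype.card F = 7 := by
    have : Fintype.card F ≤ 7 := by nlinarith [sq_nonneg ((n₁ : ℤ) - n₂)]
    omega
  rw [h7] at hs hq2
  have h34 : 3 ≤ n₁ ∧ 3 ≤ n₂ := by
    have hb : n₁ ≤ 7 := by omega
    obtain rfl : n₂ = 7 - n₁ := by omega
    interval_cases n₁ <;> simp_all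
  -- a line through two centres carries eight of them
  obtain ⟨g, hg, hgu⟩ := exists_off hK h3 hu
  have hgM := hmem g hg
  set Q := (g : Mat) *ᵥ u with hQ
  have hQ0 : φ ⬝ᵥ Q ≠ 0 := fun e => (hfew g hg e).elim fun c hc => hgu c hc
  obtain ⟨hu0, m, hm, hmx⟩ := h
  have hpow : ∀ (i : ℕ) (x : Vec), ((m ^ i : GL3) : Mat) *ᵥ x = x + ((i : F) * (φ ⬝ᵥ x)) • u := by
    intro i
    induction i with
    | zero => intro x; simp
    | succ i ih =>
      intro x
      rw [pow_succ, Max.mulVec_mul_GL, hmx, ih, dotProduct_add, dotProduct_smul,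
        hu0, smul_zero, add_zero, Nat.cast_succ]
      module
  obtain ⟨χ, hχ0, hχu, hχQ⟩ : ∃ χ : Vec, χ ≠ 0 ∧ χ ⬝ᵥ u = 0 ∧ χ ⬝ᵥ Q = 0 := by
    let L : Vec →ₗ[F] (Fin 2 → F) :=
      { toFun := fun χ => ![χ ⬝ᵥ u, χ ⬝ᵥ Q]
        map_add' := fun a b => by ext i; fin_cases i <;> simp [add_dotProduct]
        map_smul' := fun c a => by ext i; fin_cases i <;> simp [smul_dotProduct] }
    have h1 := LinearMap.finrank_range_add_finrank_ker L
    have h2 := Submodule.finrank_le (LinearMap.range L)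
    rw [Module.finrank_fintype_fun_eq_card, Fintype.card_fin] at h1 h2
    obtain ⟨χ, hχ, h0⟩ := Submodule.exists_mem_ne_zero_of_ne_bot (p := L.ker) fun e => by
      rw [e, finrank_bot] at h1; omega
    exact ⟨χ, h0, by simpa [L] using congrFun hχ 0, by simpa [L] using congrFun hχ 1⟩
  haveI : CharP F 7 := by
    obtain ⟨p, hp⟩ := CharP.exists F
    haveI := hp
    obtain ⟨k, hpr, hk⟩ := FiniteField.card F p
    rw [h7] at hk
    have : p ∣ 7 := hk ▸ dvd_pow_self p k.ne_zero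
    obtain rfl := ((Nat.prime_dvd_prime_iff_eq hpr (by norm_num : Nat.Prime 7))).1 this
    exact hp
  -- some centre outside the orbit
  obtain ⟨j, hj⟩ : ∃ j : Fin 7, ¬ Orb K u (((m ^ (j : ℕ) * g : GL3) : Mat) *ᵥ u) := by
    by_contra hall
    push Not at hall
    obtain ⟨k, k₁, k₂, hk, hks, hk2, -⟩ := Count.three_classes hK h3 hχ0 hu
    have hge := card_ge (Orb K u) (φ := χ)
      ((Finset.univ : Finset (Fin 7)).image fun j : Fin 7 => ((m ^ (j : ℕ) * g : GL3) : Mat) *ᵥ u)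
      (fun a ha => by
        obtain ⟨j, -, rfl⟩ := Finset.mem_image.1 ha
        refine ⟨Max.mulVec_ne_zero _ hu, ?_, fun c hc => ?_⟩
        · rw [Max.mulVec_mul_GL, ← hQ, hpow, dotProduct_add, dotProduct_smul, hχu, hχQ, smul_zero, add_zero]
        · obtain ⟨k', hk', k0, ⟨d, hd⟩, e⟩ := hall j
          exact ⟨c • k', K.smul_mem hk' c, smul_ne_zero hc k0, ⟨c * d, by
            rw [Matrix.det_smul, hd, Fintype.card_fin]; ring⟩, by rw [Matrix.smul_mulVec, ← e]⟩)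
      (fun a ha b hb c hbc => by
        obtain ⟨i, -, rfl⟩ := Finset.mem_image.1 ha
        obtain ⟨j, -, rfl⟩ := Finset.mem_image.1 hb
        rw [Max.mulVec_mul_GL, Max.mulVec_mul_GL, ← hQ, hpow, hpow] at hbc ⊢
        have hc1 : c = 1 := by
          have := congrArg (φ ⬝ᵥ ·) hbc
          simp only [dotProduct_add, dotProduct_smul, hu0, mul_zero, add_zero, smul_eq_mul] at this
          exact mul_right_cancel₀ hQ0 (by rw [one_mul]; exact this.symm)
        rw [hc1, one_smul] at hbc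
        exact hbc.symm)
    rw [hk, Finset.card_image_of_injective _ (fun i j hij => ?_), Finset.card_univ, Fintype.card_fin] at hge
    · rw [h7] at hge hks hk2
      have : 7 ≤ k := by omega
      nlinarith
    · simp only [Max.mulVec_mul_GL, ← hQ, hpow, add_right_inj] at hij
      have e := smul_left_injective F hu hij
      have e' := mul_right_cancel₀ hQ0 e
      rw [CharP.natCast_eq_natCast F 7] at e'
      exact Fin.ext (Nat.ModEq.eq_of_lt_of_lt e' i.2 j.2)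
  set R := ((m ^ (j : ℕ) * g : GL3) : Mat) *ᵥ u with hR
  have hRM : (m ^ (j : ℕ) * g : GL3) ∈ M := mul_mem (pow_mem hm _) hgM
  have hR0 : R ≠ 0 := Max.mulVec_ne_zero _ hu
  have htr : Tr M u φ := ⟨hu0, m, hm, hmx⟩
  -- two points of its orbit on the axis
  have hbig : Nat.card {w : Vec // w ≠ 0 ∧ φ ⬝ᵥ w = 0 ∧ Orb K R w} > Fintype.card F - 1 := by
    rcases hcls R hR0 hj with e | e <;> rw [e, h7] <;> omega
  refine absurd hbig (not_lt.2 ?_)
  by_cases hne : ∃ w, w ≠ 0 ∧ φ ⬝ᵥ w = 0 ∧ Orb K R w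
  swap
  · exact card_le_one (a := 0) _ fun w h1 h2 h3' => absurd ⟨w, h1, h2, h3'⟩ hne
  obtain ⟨w₀, hw₀, hw₀0, ho⟩ := hne
  refine card_le_one (a := w₀) _ fun w h1 h2 h3' => ?_
  obtain ⟨a, ha, c, hc, rfl⟩ := exists_inC hK ho
  obtain ⟨b, hb, d, hd, rfl⟩ := exists_inC hK h3'
  set y := ((m ^ (j : ℕ) * g : GL3)) with hy
  -- compare the axes at the two points
  have key : ∀ z, InC K z → φ ⬝ᵥ ((z : Mat) *ᵥ R) = 0 → ∃ e : F, φ ᵥ* (((z * y)⁻¹ : GL3) : Mat) = e • φ := by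
    intro z hz hz0
    have hzM : z * y ∈ M := mul_mem (hmem z hz) hRM
    have hy0 : φ ⬝ᵥ (((z * y : GL3) : Mat) *ᵥ u) = 0 := by rw [Max.mulVec_mul_GL]; exact hz0
    have hy' : (φ ᵥ* (((z * y)⁻¹ : GL3) : Mat)) ⬝ᵥ u = 0 := by
      rw [← dotProduct_mulVec]; exact tr_sym hφ htr huq hzM hy0
    refine prop_of_two hφ hu (fun d hd => hj ?_) htr.1 hy0 hy' (htr.conj hzM).1
    have hd0 : d ≠ 0 := fun e => Max.mulVec_ne_zero (z * y) hu (by rw [hd, e, zero_smul])
    have e2 : R = d • (((z⁻¹ : GL3) : Mat) *ᵥ u) := by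
      rw [← Matrix.mulVec_smul, ← hd, Max.mulVec_mul_GL, Max.inv_mulVec_cancel, hR]
    exact e2 ▸ (hz.inv hK).orb u hd0
  rw [dotProduct_smul, smul_eq_mul, mul_eq_zero] at hw₀0 h2
  obtain ⟨ea, hea⟩ := key a ha (hw₀0.resolve_left hc)
  obtain ⟨eb, heb⟩ := key b hb (h2.resolve_left hd)
  have e₁ : φ ᵥ* ((y⁻¹ : GL3) : Mat) = ea • (φ ᵥ* (a : Mat)) := by
    rw [← Matrix.smul_vecMul, ← hea, Matrix.vecMul_vecMul, ← Units.val_mul,
      show (a * y)⁻¹ * a = y⁻¹ by group]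
  have e₂ : φ ᵥ* ((y⁻¹ : GL3) : Mat) = eb • (φ ᵥ* (b : Mat)) := by
    rw [← Matrix.smul_vecMul, ← heb, Matrix.vecMul_vecMul, ← Units.val_mul,
      show (b * y)⁻¹ * b = y⁻¹ by group]
  have hea0 : ea ≠ 0 := fun h0 => hφ (by
    have h1 := congrArg (fun v => v ᵥ* (y : Mat)) e₁
    simpa [h0, Matrix.vecMul_vecMul] using h1)
  have e₃ : φ ᵥ* ((a * b⁻¹ : GL3) : Mat) = (ea⁻¹ * eb) • φ := by
    have h1 := congrArg (fun v => v ᵥ* ((b⁻¹ : GL3) : Mat)) (e₁.symm.trans e₂)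
    simp only [Matrix.smul_vecMul, Matrix.vecMul_vecMul, ← Units.val_mul, mul_inv_cancel, Units.val_one,
      Matrix.vecMul_one] at h1
    rw [← smul_smul, ← h1, inv_smul_smul₀ hea0]
  have hs := scalar_of_prop hK hφ (ha.mul (hb.inv hK)) e₃
  set s := ea⁻¹ * eb
  have hsR : (a : Mat) *ᵥ R = s • ((b : Mat) *ᵥ R) := by
    have : (a : Mat) = s • (b : Mat) := by
      have := congrArg (· * (b : Mat)) hs
      simpa [Units.val_mul, mul_assoc] using this
    rw [this, Matrix.smul_mulVec]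
  have hs0 : s ≠ 0 := fun e => Max.mulVec_ne_zero a hR0 (by rw [hsR, e, zero_smul])
  refine ⟨d * (c * s)⁻¹, ?_⟩
  rw [hsR, smul_smul, smul_smul]
  congr 1
  field_simp

/-- a homology centre with a single axis is impossible -/
theorem not_unique_hom (hK : Cfsg.Geo.IsFieldSubalgebra 3 K) (h2 : (2 : F) ≠ 0) (hM : CycIn K M) {u φ : Vec}
    (h : Hom M u φ) (huq : ∀ ψ, Hom M u ψ → ψ = φ) : False := by
  classical
  have hu : u ≠ 0 := fun e => h2 (by rw [← h.1, e, dotProduct_zero])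
  have hφ : φ ≠ 0 := fun e => h2 (by rw [← h.1, e, zero_dotProduct])
  have hmem : ∀ g, InC K g → g ∈ M := fun g hg => hM g hg.1 hg.2
  have hsym : ∀ g, InC K g → φ ⬝ᵥ ((g : Mat) *ᵥ u) = 0 → φ ⬝ᵥ (((g⁻¹ : GL3) : Mat) *ᵥ u) = 0 := by
    intro g hg hgu
    obtain ⟨h0, m, hm, hmx⟩ := id h
    have hQ := (h.conj (hmem g hg))
    set ψ := φ ᵥ* ((g⁻¹ : GL3) : Mat) with hψ
    have hQ' := hQ.conj hm
    rw [hmx, hgu, zero_smul, zero_sub] at hQ'
    -- the opposite centre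
    obtain ⟨e0, n, hn, hnx⟩ := hQ'
    have h3 : Hom M ((g : Mat) *ᵥ u) (-(ψ ᵥ* ((m⁻¹ : GL3) : Mat))) := by
      refine ⟨by rw [neg_dotProduct, ← dotProduct_neg]; exact e0, n, hn, fun x => ?_⟩
      rw [hnx, neg_dotProduct, neg_smul, smul_neg]
    have h4 := h3.conj (inv_mem (hmem g hg))
    rw [Max.inv_mulVec_cancel, inv_inv] at h4
    have h5 := congrArg (fun v => v ᵥ* ((g⁻¹ : GL3) : Mat)) (huq _ h4)
    simp only [Matrix.vecMul_vecMul, Units.mul_inv, Matrix.vecMul_one, ← hψ] at h5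
    have hinv : ((m⁻¹ : GL3) : Mat) *ᵥ u = u := by
      conv_lhs => rw [show u = (m : Mat) *ᵥ u by rw [hmx, h0, two_smul, add_sub_cancel_right]]
      rw [Max.inv_mulVec_cancel]
    have h6 := congrArg (· ⬝ᵥ u) h5
    simp only [neg_dotProduct] at h6
    rw [← dotProduct_mulVec, hinv] at h6
    have h7 : (2 : F) * (ψ ⬝ᵥ u) = 0 := by linear_combination -h6
    rw [dotProduct_mulVec]
    exact (mul_eq_zero.1 h7).resolve_left h2
  have hq := Fintype.one_lt_card (α := F)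
  have hcard2 : ∀ a, InC K a → φ ⬝ᵥ ((a : Mat) *ᵥ u) = 0 →
      Nat.card {w : Vec // w ≠ 0 ∧ φ ⬝ᵥ w = 0 ∧ Orb K u w} = 2 * (Fintype.card F - 1) := by
    intro a ha hau
    set w₁ := (a : Mat) *ᵥ u with hw₁
    set w₂ := ((a⁻¹ : GL3) : Mat) *ᵥ u with hw₂
    have hne : ∀ c : F, w₂ ≠ c • w₁ := by
      intro c hc
      have hc0 : c ≠ 0 := fun e => Max.mulVec_ne_zero a⁻¹ hu (by rw [← hw₂, hc, e, zero_smul])
      have h1 : ((a * a : GL3) : Mat) *ᵥ u = c⁻¹ • u := by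
        have h' := congrArg (fun v => c⁻¹ • ((a : Mat) *ᵥ v)) hc
        simp only [hw₂, Max.mulVec_inv_cancel, Matrix.mulVec_smul, hw₁, inv_smul_smul₀ hc0] at h'
        rw [Max.mulVec_mul_GL, ← h']
      have hs := eq_scalar hK (ha.mul ha).1 hu h1
      have hd := congrArg Matrix.det hs
      rw [(ha.mul ha).2, Matrix.det_smul, Matrix.det_one, mul_one, Fintype.card_fin] at hd
      have hc3 : c ^ 3 = 1 := by
        rw [inv_pow] at hd
        exact inv_eq_one.1 hd.symm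
      -- a square root of the scalar lies in the field
      have hmul : ((a : Mat) - c • 1) * ((a : Mat) + c • 1) = 0 := by
        have hc2 : c⁻¹ = c * c := by
          field_simp
          linear_combination -hc3
        rw [Units.val_mul] at hs
        simp only [mul_add, sub_mul, Matrix.smul_mul, Matrix.mul_smul, one_mul, mul_one, smul_smul, hs, hc2]
        abel
      have key : ∀ d : F, (a : Mat) ≠ d • 1 := fun d hd => h2 (by
        have h0 := hau
        rw [hw₁, hd, Matrix.smul_mulVec, one_mulVec, dotProduct_smul, h.1, smul_eq_mul] at h0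
        refine (mul_eq_zero.1 h0).resolve_left fun e => Units.ne_zero a ?_
        rw [hd, e, zero_smul])
      obtain ⟨y, -, hy⟩ := hK.inv _ (K.sub_mem ha.1 (K.smul_mem K.one_mem c)) (sub_ne_zero.2 (key c))
      refine key (-c) ?_
      have := congrArg (fun z => y * z) hmul
      simp only [← mul_assoc, mul_eq_one_comm.1 hy, one_mul, mul_zero] at this
      rw [neg_smul]; exact eq_neg_of_add_eq_zero_left this
    refine le_antisymm (card_le_two (a := w₁) (b := w₂) (Orb K u) fun w hw hw0 ho => ?_) ?_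
    · obtain ⟨b, hb, c, hc, rfl⟩ := exists_inC hK ho
      rw [dotProduct_smul, smul_eq_mul, mul_eq_zero] at hw0
      rcases line_subset_two hK hu hφ hsym ha hau hb (hw0.resolve_left hc) with ⟨d, hd⟩ | ⟨d, hd⟩
      · exact Or.inl ⟨c * d, by rw [hd, smul_smul]⟩
      · exact Or.inr ⟨c * d, by rw [hd, smul_smul]⟩
    · have hge := card_ge (Orb K u) (φ := φ) {w₁, w₂} (fun x hx => by
        simp only [Finset.mem_insert, Finset.mem_singleton] at hx
        rcases hx with rfl | rfl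
        · exact ⟨Max.mulVec_ne_zero a hu, hau, fun c hc => ha.orb u hc⟩
        · exact ⟨Max.mulVec_ne_zero a⁻¹ hu, hsym a ha hau, fun c hc => (ha.inv hK).orb u hc⟩) (fun x hx y hy c hxy => by
        simp only [Finset.mem_insert, Finset.mem_singleton] at hx hy
        rcases hx with rfl | rfl <;> rcases hy with rfl | rfl
        · rfl
        · exact absurd hxy (hne c)
        · refine absurd ?_ (hne c⁻¹)
          rw [hxy, inv_smul_smul₀]
          exact fun e => Max.mulVec_ne_zero a hu (by rw [← hw₁, hxy, e, zero_smul])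
        · rfl)
      rwa [Finset.card_pair (fun e => hne 1 (by rw [one_smul, e]))] at hge
  by_cases h3 : Fintype.card F % 3 = 1
  · obtain ⟨n, n₁, n₂, hn, hs, hq2⟩ := Count.three_sums hK h3 hφ hu
    have hodd : Fintype.card F % 2 = 1 := by
      by_contra hev
      have h2' := FiniteField.even_card_iff_char_two.2 (show Fintype.card F % 2 = 0 by omega)
      exact h2 (by
        have := (ringChar.spec F 2).2 (by rw [h2'])
        exact_mod_cast this)
    rcases Nat.eq_zero_or_pos n with rfl | hpos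
    · nlinarith [sq_nonneg ((n₁ : ℤ) - n₂)]
    · have hn2 : n = 2 := by
        have hp : 0 < Nat.card {w : Vec // w ≠ 0 ∧ φ ⬝ᵥ w = 0 ∧ Orb K u w} := by
          rw [hn]; exact Nat.mul_pos hpos (by omega)
        obtain ⟨⟨w, hw, hw0, ho⟩⟩ := (Nat.card_pos_iff.1 hp).1
        obtain ⟨g, hg, c, hc, rfl⟩ := exists_inC hK ho
        rw [dotProduct_smul, smul_eq_mul, mul_eq_zero] at hw0
        have := hcard2 g hg (hw0.resolve_left hc)
        rw [hn] at this
        exact Nat.eq_of_mul_eq_mul_right (by omega) this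
      subst hn2
      have h11 : Fintype.card F ≤ 11 := by nlinarith [sq_nonneg ((n₁ : ℤ) - n₂)]
      have h7 : Fintype.card F = 7 := by omega
      rw [h7] at hs hq2
      have : n₁ ≤ 6 := by omega
      obtain rfl : n₂ = 6 - n₁ := by omega
      interval_cases n₁ <;> simp_all
  · have h1 := ker_card hφ
    have h2' : Nat.card {w : Vec // w ≠ 0 ∧ φ ⬝ᵥ w = 0} = Nat.card {w : Vec // w ≠ 0 ∧ φ ⬝ᵥ w = 0 ∧ Orb K u w} :=
      Nat.card_congr (Equiv.subtypeEquivRight fun w =>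
        ⟨fun ⟨a, b⟩ => ⟨a, b, Count.all_orb hK h3 hu a⟩, fun ⟨a, b, _⟩ => ⟨a, b⟩⟩)
    have hq3 : 3 ≤ Fintype.card F := by
      by_contra hlt
      have hq2 : Fintype.card F = 2 := by omega
      exact h2 (by simpa [hq2] using Nat.cast_card_eq_zero F)
    have hbig : 2 * (Fintype.card F - 1) < Nat.card {w : Vec // w ≠ 0 ∧ φ ⬝ᵥ w = 0 ∧ Orb K u w} := by
      have : 3 * Fintype.card F ≤ Fintype.card F ^ 2 := by rw [pow_two]; exact Nat.mul_le_mul_right _ hq3
      omega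
    have hp : 0 < Nat.card {w : Vec // w ≠ 0 ∧ φ ⬝ᵥ w = 0 ∧ Orb K u w} := by omega
    obtain ⟨⟨w, hw, hw0, ho⟩⟩ := (Nat.card_pos_iff.1 hp).1
    obtain ⟨g, hg, c, hc, rfl⟩ := exists_inC hK ho
    rw [dotProduct_smul, smul_eq_mul, mul_eq_zero] at hw0
    rw [hcard2 g hg (hw0.resolve_left hc)] at hbig
    omega

theorem range_small (A : Mat) (h : Module.finrank F (LinearMap.range A.mulVecLin) ≤ 1) :
    ∃ u φ : Vec, ∀ x, A *ᵥ x = (φ ⬝ᵥ x) • u := by
  obtain ⟨u, hu⟩ := finrank_le_one_iff.1 h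
  choose c hc using fun j => hu ⟨A *ᵥ Pi.single j 1, ⟨Pi.single j 1, rfl⟩⟩
  refine ⟨(u : Vec), c, fun x => funext fun i => ?_⟩
  have hij : ∀ j, A i j = c j * (u : Vec) i := fun j => by
    have := congrArg (fun z : LinearMap.range A.mulVecLin => (z : Vec) i) (hc j)
    simpa [Matrix.mulVec_single_one] using this.symm
  simp only [Matrix.mulVec, dotProduct, Pi.smul_apply, smul_eq_mul, Finset.sum_mul]
  exact Finset.sum_congr rfl fun j _ => by rw [hij]; ring

theorem det_of_act {t : Mat} {u φ : Vec} (h : ∀ x, t *ᵥ x = x + (φ ⬝ᵥ x) • u) : t.det = 1 + φ ⬝ᵥ u := by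
  have : t = 1 + Matrix.replicateCol Unit u * Matrix.replicateRow Unit φ := by
    refine Matrix.ext_iff_mulVec.2 fun x => ?_
    rw [h, Matrix.add_mulVec, one_mulVec, ← Matrix.vecMulVec_eq, Matrix.vecMulVec_mulVec, op_smul_eq_smul]
  rw [this, Matrix.det_one_add_replicateCol_mul_replicateRow]

/-- involutions of determinant one are elations or homologies -/
theorem invol {t : GL3} (htM : t ∈ M) (ht : t ≠ 1) (ht2 : t * t = 1) (hdet : (t : Mat).det = 1) :
    (∃ u φ : Vec, u ≠ 0 ∧ φ ≠ 0 ∧ Tr M u φ) ∨ ((2 : F) ≠ 0 ∧ ∃ u φ : Vec, Hom M u φ) := by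
  have hsq : (t : Mat) * t = 1 := by rw [← Units.val_mul, ht2, Units.val_one]
  set A := (t : Mat) - 1 with hA
  set B := (t : Mat) + 1 with hB
  have hBA : B * A = 0 := by rw [hA, hB, add_mul, mul_sub, mul_sub, hsq]; simp
  have hle : LinearMap.range A.mulVecLin ≤ LinearMap.ker B.mulVecLin := by
    rintro _ ⟨x, rfl⟩
    simp [Matrix.mulVec_mulVec, hBA]
  have h1 := Submodule.finrank_mono hle
  have h2 := LinearMap.finrank_range_add_finrank_ker B.mulVecLin
  rw [Module.finrank_fintype_fun_eq_card, Fintype.card_fin] at h2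
  rcases le_or_gt (Module.finrank F (LinearMap.range A.mulVecLin)) 1 with hA1 | hA1
  · left
    obtain ⟨u, φ, e⟩ := range_small A hA1
    have htx : ∀ x, (t : Mat) *ᵥ x = x + (φ ⬝ᵥ x) • u := fun x => by
      rw [← e, hA, Matrix.sub_mulVec, one_mulVec]; abel
    have hd : φ ⬝ᵥ u = 0 := by
      have := det_of_act htx
      rw [hdet] at this
      exact left_eq_add.1 this
    refine ⟨u, φ, fun h => ht (Max.gl_ext fun x => ?_), fun h => ht (Max.gl_ext fun x => ?_), hd, t, htM, htx⟩ <;>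
      simp [htx, h]
  · obtain ⟨u, φ, e⟩ := range_small B (by omega)
    have htx : ∀ x, (t : Mat) *ᵥ x = (φ ⬝ᵥ x) • u - x := fun x => by
      rw [← e, hB, Matrix.add_mulVec, one_mulVec]; abel
    have hneg : ∀ x, (-(t : Mat)) *ᵥ x = x + ((-φ) ⬝ᵥ x) • u := fun x => by
      rw [Matrix.neg_mulVec, htx, neg_dotProduct, neg_smul]; abel
    have hd := det_of_act hneg
    rw [Matrix.det_neg, hdet, neg_dotProduct, Fintype.card_fin] at hd
    have hd2 : φ ⬝ᵥ u = 2 := by linear_combination hd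
    by_cases h20 : (2 : F) = 0
    · left
      have hneg' : ∀ v : Vec, -v = v := fun v => funext fun i => by
        rw [Pi.neg_apply]; linear_combination -(v i) * h20
      have htx' : ∀ x, (t : Mat) *ᵥ x = x + (φ ⬝ᵥ x) • u := fun x => by
        rw [htx, sub_eq_add_neg, hneg' x, add_comm]
      refine ⟨u, φ, fun h => ht (Max.gl_ext fun x => ?_), fun h => ht (Max.gl_ext fun x => ?_),
        hd2.trans h20, t, htM, htx'⟩ <;> simp [htx', h]
    · exact Or.inr ⟨h20, u, φ, hd2, t, htM, htx⟩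

/-- an involution forces a centre with two axes -/
theorem exists_two_axes (hK : Cfsg.Geo.IsFieldSubalgebra 3 K) (h4 : Fintype.card F ≠ 4) (hM : CycIn K M) {t : GL3}
    (htM : t ∈ M) (ht : t ≠ 1) (ht2 : t * t = 1) (hdet : (t : Mat).det = 1) :
    ∃ u φ ψ : Vec, u ≠ 0 ∧ φ ≠ 0 ∧ Tr M u φ ∧ Tr M u ψ ∧ ∀ c : F, ψ ≠ c • φ := by
  obtain ⟨u, φ, hu, hφ, h⟩ : ∃ u φ : Vec, u ≠ 0 ∧ φ ≠ 0 ∧ Tr M u φ := by
    rcases invol htM ht ht2 hdet with h | ⟨h2, u, φ, h⟩
    · exact h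
    · obtain ⟨ψ, hψ, hne⟩ : ∃ ψ, Hom M u ψ ∧ ψ ≠ φ := by
        by_contra hc
        push Not at hc
        exact not_unique_hom hK h2 hM h hc
      refine ⟨u, ψ - φ, fun e => h2 (by rw [← h.1, e, dotProduct_zero]), sub_ne_zero.2 hne, ?_⟩
      obtain ⟨h0, m, hm, hmx⟩ := h
      obtain ⟨h0', n, hn, hnx⟩ := hψ
      refine ⟨by rw [sub_dotProduct, h0, h0', sub_self], m * n, mul_mem hm hn, fun x => ?_⟩
      rw [Max.mulVec_mul_GL, hnx, hmx, dotProduct_sub, dotProduct_smul, h0, sub_dotProduct, smul_eq_mul]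
      module
  by_contra hc
  push Not at hc
  exact not_unique_tr hK h4 hM hu hφ h fun ψ hψ => hc u φ ψ hu hφ h hψ

end Cfsg.Agent.Forms.Max.SL3.Singer.Thin
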