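import Mathlib
import Cfsg.Agent.Lib.Forms.Max.SL3.Singer.Count

/-!
# Transvection centres with two axes under a cubic field

If a subgroup containing the determinant one part of a cubic field has a centre with two axes, then it
contains the special linear group.
-/

set_option autoImplicit false
set_option linter.unusedSectionVars false

namespace Cfsg.Agent.Forms.Max.SL3.Singer

open Matrix Cfsg.Agent.Aschbacher

variable {F : Type*} [Field F] [Fintype F]

local notation "Mat" => Matrix (Fin 3) (Fin 3) F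
local notation "Vec" => (Fin 3 → F)
local notation "GL3" => GL (Fin 3) F

variable {K : Subalgebra F (Matrix (Fin 3) (Fin 3) F)} {M : Subgroup (GL (Fin 3) F)}

/-- a centre with two axes -/
def Fat (M : Subgroup GL3) (x : Vec) : Prop :=
  x ≠ 0 ∧ ∃ φ ψ, Tr M x φ ∧ Tr M x ψ ∧ φ ≠ 0 ∧ ∀ c : F, ψ ≠ c • φ

theorem Tr.zero (x : Vec) : Tr M x 0 :=
  ⟨zero_dotProduct _, 1, one_mem M, fun y => by simp⟩

theorem Tr.neg {x φ : Vec} (h : Tr M x φ) : Tr M x (-φ) := by
  obtain ⟨h0, m, hm, e⟩ := h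
  refine ⟨by rw [neg_dotProduct, h0, neg_zero], m⁻¹, inv_mem hm, fun y => ?_⟩
  obtain ⟨z, rfl⟩ : ∃ z, (m : Mat) *ᵥ z = y := ⟨_, Max.mulVec_inv_cancel m y⟩
  rw [← Max.mulVec_mul_GL, inv_mul_cancel, Units.val_one, Matrix.one_mulVec, e, dotProduct_add,
    dotProduct_smul, neg_dotProduct, neg_dotProduct, h0]
  simp

theorem Tr.smul_centre {x φ : Vec} (h : Tr M x φ) {c : F} (hc : c ≠ 0) : Tr M (c • x) (c⁻¹ • φ) :=
  Tr.swap (c := c⁻¹) (by rwa [inv_smul_smul₀ hc]) (inv_ne_zero hc)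

theorem Tr.add_centre {x y φ : Vec} (h : Tr M x φ) (h' : Tr M y φ) : Tr M (x + y) φ := by
  obtain ⟨h0, m, hm, e⟩ := h
  obtain ⟨h0', n, hn, e'⟩ := h'
  refine ⟨by rw [dotProduct_add, h0, h0', add_zero], m * n, mul_mem hm hn, fun z => ?_⟩
  rw [Max.mulVec_mul_GL, e', e, dotProduct_add, dotProduct_smul, h0', smul_zero, add_zero]
  module

/-- the scalars of a functional giving transvections at a centre -/
def coef (M : Subgroup GL3) (x f : Vec) : AddSubgroup F where
  carrier := {t | Tr M x (t • f)}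
  zero_mem' := by show Tr M x ((0 : F) • f); rw [zero_smul]; exact Tr.zero x
  add_mem' := fun {a b} ha hb => by show Tr M x ((a + b) • f); rw [add_smul]; exact Tr.add ha hb
  neg_mem' := fun {a} ha => by show Tr M x ((-a) • f); rw [neg_smul]; exact Tr.neg ha

theorem mem_coef {x f : Vec} {t : F} : t ∈ coef M x f ↔ Tr M x (t • f) := Iff.rfl

namespace Fat

theorem smul {x : Vec} (h : Fat M x) {c : F} (hc : c ≠ 0) : Fat M (c • x) := by
  obtain ⟨hx, φ, ψ, h1, h2, h0, hi⟩ := h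
  refine ⟨smul_ne_zero hc hx, c⁻¹ • φ, c⁻¹ • ψ, h1.smul_centre hc, h2.smul_centre hc,
    smul_ne_zero (inv_ne_zero hc) h0, fun d e => hi d ?_⟩
  have := congrArg (c • ·) e
  simp only [smul_smul, mul_inv_cancel₀ hc, one_smul] at this
  rw [this, show c * (d * c⁻¹) = d by rw [mul_comm d, mul_inv_cancel_left₀ hc]]

theorem map {x : Vec} (h : Fat M x) {g : GL3} (hg : g ∈ M) : Fat M ((g : Mat) *ᵥ x) := by
  obtain ⟨hx, φ, ψ, h1, h2, h0, hi⟩ := h
  have key : ∀ z : Vec, z ᵥ* ((g⁻¹ : GL3) : Mat) ᵥ* (g : Mat) = z := fun z => by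
    rw [Matrix.vecMul_vecMul, ← Units.val_mul, inv_mul_cancel, Units.val_one, Matrix.vecMul_one]
  refine ⟨fun e => hx ?_, _, _, h1.conj hg, h2.conj hg, fun e => h0 ?_, fun d e => hi d ?_⟩
  · have := congrArg (((g⁻¹ : GL3) : Mat) *ᵥ ·) e
    simpa [Matrix.mulVec_mulVec] using this
  · rw [← key φ, e, Matrix.zero_vecMul]
  · rw [← key ψ, e, Matrix.smul_vecMul, key]

end Fat

theorem Orb.ne_zero (hK : Cfsg.Geo.IsFieldSubalgebra 3 K) {v w : Vec} (hv : v ≠ 0) (h : Orb K v w) : w ≠ 0 := by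
  obtain ⟨k, hk, h0, -, rfl⟩ := h
  intro e
  exact h0 (by simpa using eq_scalar hK hk hv (c := 0) (by rw [e, zero_smul]))

theorem Orb.smul {v w : Vec} (h : Orb K v w) {c : F} (hc : c ≠ 0) : Orb K v (c • w) := by
  obtain ⟨k, hk, h0, ⟨d, hd⟩, rfl⟩ := h
  exact ⟨c • k, K.smul_mem hk c, smul_ne_zero hc h0,
    ⟨c * d, by rw [Matrix.det_smul, hd, Fintype.card_fin, mul_pow]⟩, (Matrix.smul_mulVec _ _ _).symm⟩

theorem Orb.of_common (hK : Cfsg.Geo.IsFieldSubalgebra 3 K) {v w x : Vec} (h : Orb K v x) (h' : Orb K w x) :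
    Orb K v w := by
  obtain ⟨k, hk, h0, ⟨d, hd⟩, rfl⟩ := h
  obtain ⟨k', hk', h0', ⟨d', hd'⟩, e⟩ := h'
  obtain ⟨y, hy, ey⟩ := hK.inv k' hk' h0'
  have ey' : y * k' = 1 := mul_eq_one_comm.1 ey
  have hy0 : y.det * k'.det = 1 := by rw [← Matrix.det_mul, ey', Matrix.det_one]
  have hd0' : d' ≠ 0 := fun e => by rw [hd', e] at hy0; simp at hy0
  refine ⟨y * k, K.mul_mem hy hk, fun e0 => h0 ?_, ⟨d / d', ?_⟩, ?_⟩
  · rw [← one_mul k, ← ey, mul_assoc, e0, mul_zero]
  · rw [Matrix.det_mul, hd, div_pow, eq_div_iff (pow_ne_zero _ hd0'), ← hd', mul_right_comm, hy0, one_mul]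
  · rw [← Matrix.mulVec_mulVec, e, Matrix.mulVec_mulVec, ey', Matrix.one_mulVec]

theorem Orb.fat (hK : Cfsg.Geo.IsFieldSubalgebra 3 K) (hM : CycIn K M) {v w : Vec} (hv : Fat M v)
    (h : Orb K v w) : Fat M w := by
  obtain ⟨g, hg, c, hc, rfl⟩ := h.exists_mem hK hM
  exact (hv.map hg).smul hc

/-- the number of points of a line -/
theorem card_ker {φ : Vec} (hφ : φ ≠ 0) :
    Nat.card {x : Vec // φ ⬝ᵥ x = 0} = Fintype.card F ^ 2 := by
  let L : Vec →ₗ[F] F :=
    { toFun := fun x => φ ⬝ᵥ x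
      map_add' := fun a b => dotProduct_add _ _ _
      map_smul' := fun c a => by simp [dotProduct_smul] }
  have hsur : Function.Surjective L := by
    obtain ⟨i, hi⟩ := Function.ne_iff.1 hφ
    simp only [Pi.zero_apply] at hi
    exact fun t => ⟨Pi.single i (t / φ i), by
      show φ ⬝ᵥ _ = t
      rw [dotProduct_single, mul_div_cancel₀ _ hi]⟩
  have h := L.finrank_range_add_finrank_ker
  rw [LinearMap.range_eq_top.2 hsur, finrank_top, Module.finrank_self, Module.finrank_fintype_fun_eq_card,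
    Fintype.card_fin] at h
  have hc := Module.natCard_eq_pow_finrank (K := F) (V := LinearMap.ker L)
  rw [show Module.finrank F (LinearMap.ker L) = 2 by omega, Nat.card_eq_fintype_card (α := F)] at hc
  exact hc

/-- one orbit of points on a line -/
def lineOrb (K : Subalgebra F (Matrix (Fin 3) (Fin 3) F)) (v φ : Vec) : Set Vec :=
  {w | w ≠ 0 ∧ φ ⬝ᵥ w = 0 ∧ Orb K v w}

/-- centres with two axes on a line -/
def lineFat (M : Subgroup (GL (Fin 3) F)) (φ : Vec) : Set Vec :=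
  {w | w ≠ 0 ∧ φ ⬝ᵥ w = 0 ∧ Fat M w}

theorem lineOrb_subset (hK : Cfsg.Geo.IsFieldSubalgebra 3 K) (hM : CycIn K M) {v φ : Vec} (hv : Fat M v) :
    lineOrb K v φ ⊆ lineFat M φ := fun _ hw => ⟨hw.1, hw.2.1, Orb.fat hK hM hv hw.2.2⟩

/-- the numbers of points of an orbit on a line -/
theorem count (hK : Cfsg.Geo.IsFieldSubalgebra 3 K) {v φ : Vec} (hv : v ≠ 0) (hφ : φ ≠ 0) :
    ∃ n : ℕ, (lineOrb K v φ).ncard = n * (Fintype.card F - 1) ∧
      (Fintype.card F % 3 ≠ 1 ∧ n = Fintype.card F + 1 ∨ Fintype.card F % 3 = 1 ∧ ∃ a b : ℕ, n + a + b = Fintype.card F + 1 ∧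
        3 * (n ^ 2 + a ^ 2 + b ^ 2) = Fintype.card F ^ 2 + 4 * Fintype.card F + 1) := by
  rw [← Nat.card_coe_set_eq]
  by_cases h3 : Fintype.card F % 3 = 1
  · obtain ⟨n, a, b, h1, h2, h4⟩ := Count.three_sums hK h3 hφ hv
    exact ⟨n, h1, Or.inr ⟨h3, a, b, h2, h4⟩⟩
  · refine ⟨Fintype.card F + 1, ?_, Or.inl ⟨h3, rfl⟩⟩
    have e : lineOrb K v φ = {w : Vec | φ ⬝ᵥ w = 0} \ {0} := by
      ext w
      exact ⟨fun h => ⟨h.2.1, h.1⟩, fun h => ⟨h.2, h.1, Count.all_orb hK h3 hv h.2⟩⟩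
    rw [e, Nat.card_coe_set_eq, Set.ncard_sdiff_singleton_of_mem (show (0 : Vec) ∈ {w : Vec | φ ⬝ᵥ w = 0} from dotProduct_zero φ),
      ← Nat.card_coe_set_eq, show Nat.card ↥{w : Vec | φ ⬝ᵥ w = 0} = _ from card_ker hφ, show Fintype.card F ^ 2 - 1 = Fintype.card F ^ 2 - 1 ^ 2 by simp, Nat.sq_sub_sq]

/-- three frame vectors with their coordinates -/
structure Frame (M : Subgroup (GL (Fin 3) F)) where
  u : Fin 3 → F
  v : Fin 3 → F
  w : Fin 3 → F
  a : Fin 3 → F
  b : Fin 3 → F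
  c : Fin 3 → F
  au : a ⬝ᵥ u = 1
  av : a ⬝ᵥ v = 0
  aw : a ⬝ᵥ w = 0
  bu : b ⬝ᵥ u = 0
  bv : b ⬝ᵥ v = 1
  bw : b ⬝ᵥ w = 0
  cu : c ⬝ᵥ u = 0
  cv : c ⬝ᵥ v = 0
  cw : c ⬝ᵥ w = 1
  ub : Tr M u b
  uc : Tr M u c
  fu : Fat M u
  fv : Fat M v
  fw : Fat M w

namespace Frame

variable (D : Frame M)

theorem expand (x : Vec) :
    x = (D.a ⬝ᵥ x) • D.u + (D.b ⬝ᵥ x) • D.v + (D.c ⬝ᵥ x) • D.w := by
  let P : Mat := Matrix.of fun i j => ![D.u, D.v, D.w] j i
  let Q : Mat := Matrix.of ![D.a, D.b, D.c]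
  have hPQ : P * Q = 1 := mul_eq_one_comm.1 (by
    ext i j
    show ![D.a, D.b, D.c] i ⬝ᵥ ![D.u, D.v, D.w] j = _
    fin_cases i <;> fin_cases j <;> simp [D.au, D.av, D.aw, D.bu, D.bv, D.bw, D.cu, D.cv, D.cw])
  have h := congrArg (· *ᵥ x) hPQ
  simp only [← Matrix.mulVec_mulVec, Matrix.one_mulVec] at h
  conv_lhs => rw [← h]
  funext i
  simp [P, Q, Matrix.mulVec, dotProduct, Fin.sum_univ_three]
  ring

theorem expand_dual (f : Vec) :
    f = (f ⬝ᵥ D.u) • D.a + (f ⬝ᵥ D.v) • D.b + (f ⬝ᵥ D.w) • D.c := by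
  refine dotProduct_eq _ _ fun x => ?_
  conv_lhs => rw [D.expand x]
  simp only [dotProduct_add, add_dotProduct, dotProduct_smul, smul_dotProduct, smul_eq_mul]
  ring

theorem one_mem_ub : (1 : F) ∈ coef M D.u D.b := by rw [mem_coef, one_smul]; exact D.ub

theorem one_mem_uc : (1 : F) ∈ coef M D.u D.c := by rw [mem_coef, one_smul]; exact D.uc

/-- every centre with two axes has an axis not through a point of a given line through it -/
theorem exists_off {x y f : Vec} (hx : Fat M x)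
    (hxy : ∀ g : Vec, g ⬝ᵥ x = 0 → g ⬝ᵥ y = 0 → ∃ s : F, g = s • f) : ∃ χ, Tr M x χ ∧ χ ⬝ᵥ y ≠ 0 := by
  obtain ⟨-, φ, ψ, h1, h2, h0, hi⟩ := hx
  by_cases e1 : φ ⬝ᵥ y = 0
  · by_cases e2 : ψ ⬝ᵥ y = 0
    · obtain ⟨s, rfl⟩ := hxy φ h1.1 e1
      obtain ⟨t, rfl⟩ := hxy ψ h2.1 e2
      have hs : s ≠ 0 := fun e => h0 (by rw [e, zero_smul])
      exact absurd (by rw [smul_smul, div_mul_cancel₀ _ hs]) (hi (t / s))
    · exact ⟨ψ, h2, e2⟩
  · exact ⟨φ, h1, e1⟩

theorem exists_v_axis : ∃ χ, Tr M D.v χ ∧ χ ⬝ᵥ D.u ≠ 0 := by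
  refine exists_off (f := D.c) D.fv
    fun g h1 h2 => ⟨g ⬝ᵥ D.w, ?_⟩
  conv_lhs => rw [D.expand_dual g, h1, h2]
  simp

theorem exists_w_axis {x : Vec} (hx : Fat M x) (hbx : D.b ⬝ᵥ x = 0) (hcx : D.c ⬝ᵥ x ≠ 0) :
    ∃ χ, Tr M x χ ∧ χ ⬝ᵥ D.u ≠ 0 := by
  refine exists_off (f := D.b) hx
    fun g h1 h2 => ⟨g ⬝ᵥ D.v, ?_⟩
  have e := congrArg (g ⬝ᵥ ·) (D.expand x)
  simp only [dotProduct_add, dotProduct_smul, smul_eq_mul, h1, h2, hbx] at e
  have h3 : g ⬝ᵥ D.w = 0 := by
    rcases mul_eq_zero.1 (show (D.c ⬝ᵥ x) * (g ⬝ᵥ D.w) = 0 by linear_combination -e) with h | h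
    · exact absurd h hcx
    · exact h
  conv_lhs => rw [D.expand_dual g, h2, h3]
  simp

theorem card_le_of_mul {A B : AddSubgroup F} {t : F} (ht : t ≠ 0) (h : ∀ x ∈ A, x * t ∈ B) :
    Nat.card A ≤ Nat.card B :=
  Nat.card_le_card_of_injective (fun x : A => (⟨(x : F) * t, h x x.2⟩ : B)) fun x y e =>
    Subtype.ext (mul_right_cancel₀ ht (congrArg Subtype.val e))

theorem eq_of_le {A B : AddSubgroup F} (h : A ≤ B) (hc : Nat.card B ≤ Nat.card A) : A = B :=
  SetLike.coe_injective (Set.eq_of_subset_of_ncard_le h (by rwa [← Nat.card_coe_set_eq, ← Nat.card_coe_set_eq])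
    (Set.toFinite _))

/-- The four groups of parameters agree and are closed under multiplication. -/
theorem coef_facts :
    coef M D.u D.c = coef M D.u D.b ∧ coef M D.v D.c = coef M D.u D.b ∧
    (∀ x : Vec, Fat M x → D.b ⬝ᵥ x = 0 → D.c ⬝ᵥ x = 1 → coef M x D.b = coef M D.u D.b) ∧
    ∀ r ∈ coef M D.u D.b, ∀ s ∈ coef M D.u D.b, r * s ∈ coef M D.u D.b := by
  obtain ⟨χ, hχ, hχu⟩ := D.exists_v_axis
  set A := coef M D.u D.b with hA
  set B := coef M D.u D.c with hB
  set S := coef M D.v D.c with hS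
  have hAS : ∀ r ∈ A, ∀ s ∈ S, r * s ∈ B := fun r hr s hs => by
    have := Tr.comm (mem_coef.1 hr) (mem_coef.1 hs) (by rw [smul_dotProduct, D.cu, smul_zero])
    rw [smul_dotProduct, D.bv, smul_eq_mul, mul_one, smul_smul] at this
    exact mem_coef.2 this
  have hBS : ∀ s ∈ B, s * (χ ⬝ᵥ D.u) ∈ S := fun s hs => by
    have := Tr.comm hχ (mem_coef.1 hs) (by rw [smul_dotProduct, D.cv, smul_zero])
    rw [smul_smul, mul_comm] at this
    exact mem_coef.2 this
  have hBT : ∀ x : Vec, D.b ⬝ᵥ x = 0 → D.c ⬝ᵥ x = 1 → ∀ r ∈ B, ∀ t ∈ coef M x D.b, r * t ∈ A := by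
    intro x _ hx r hr t ht
    have := Tr.comm (mem_coef.1 hr) (mem_coef.1 ht) (by rw [smul_dotProduct, D.bu, smul_zero])
    rw [smul_dotProduct, hx, smul_eq_mul, mul_one, smul_smul] at this
    exact mem_coef.2 this
  have hAT : ∀ x : Vec, Fat M x → D.b ⬝ᵥ x = 0 → D.c ⬝ᵥ x = 1 →
      ∃ t : F, t ≠ 0 ∧ ∀ r ∈ A, r * t ∈ coef M x D.b := by
    intro x hx hbx hcx
    obtain ⟨ψ, hψ, hψu⟩ := D.exists_w_axis hx hbx (by rw [hcx]; exact one_ne_zero)
    refine ⟨ψ ⬝ᵥ D.u, hψu, fun r hr => ?_⟩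
    have := Tr.comm hψ (mem_coef.1 hr) (by rw [smul_dotProduct, hbx, smul_zero])
    rw [smul_smul, mul_comm] at this
    exact mem_coef.2 this
  have hS1 : S ≤ B := fun s hs => by simpa using hAS 1 D.one_mem_ub s hs
  have hSB : S = B := eq_of_le hS1 (card_le_of_mul hχu hBS)
  have hAB : A ≤ B := fun r hr => by simpa using hAS r hr 1 (hSB ▸ D.one_mem_uc)
  obtain ⟨t, ht, hAt⟩ := hAT D.w D.fw D.bw D.cw
  have hTA : ∀ x : Vec, D.b ⬝ᵥ x = 0 → D.c ⬝ᵥ x = 1 → coef M x D.b ≤ A := fun x h1 h2 r hr => by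
    simpa using hBT x h1 h2 1 D.one_mem_uc r hr
  have hT : ∀ x : Vec, Fat M x → D.b ⬝ᵥ x = 0 → D.c ⬝ᵥ x = 1 → coef M x D.b = A := fun x hx h1 h2 => by
    obtain ⟨t, ht, hAt⟩ := hAT x hx h1 h2
    exact eq_of_le (hTA x h1 h2) (card_le_of_mul ht hAt)
  have hBA : B = A := by
    refine (eq_of_le hAB (card_le_of_mul (t := t) ht fun r hr => ?_)).symm
    refine hBT D.w D.bw D.cw r hr t ?_
    simpa using hAt 1 D.one_mem_ub
  refine ⟨hBA, hSB.trans hBA, hT, fun r hr s hs => ?_⟩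
  have := hAS r hr s (by rw [hSB, hBA]; exact hs)
  rwa [hBA] at this

/-- full parameters give the special linear group -/
theorem sl_le_of_top (h : coef M D.u D.b = ⊤) : Cfsg.Geo.specialLinear (Fin 3) F ≤ M := by
  obtain ⟨hB, hS, hT, -⟩ := D.coef_facts
  have hub : ∀ t : F, Tr M D.u (t • D.b) := fun t => mem_coef.1 (by rw [h]; trivial)
  have huc : ∀ t : F, Tr M D.u (t • D.c) := fun t => mem_coef.1 (by rw [hB, h]; trivial)
  have hvc : ∀ t : F, Tr M D.v (t • D.c) := fun t => mem_coef.1 (by rw [hS, h]; trivial)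
  have hwb : ∀ t : F, Tr M D.w (t • D.b) := fun t => mem_coef.1 (by rw [hT D.w D.fw D.bw D.cw, h]; trivial)
  obtain ⟨χ, hχ, hχu⟩ := D.exists_v_axis
  have hva1 : Tr M D.v ((χ ⬝ᵥ D.u) • D.a) := by
    have e := (hχ.add (hvc (-(χ ⬝ᵥ D.w))))
    convert e using 1
    have ex := D.expand_dual χ
    rw [hχ.1, zero_smul, add_zero] at ex
    rw [neg_smul, ← sub_eq_add_neg]
    exact eq_sub_of_add_eq ex.symm
  obtain ⟨ψ, hψ, hψu⟩ := D.exists_w_axis D.fw D.bw (by rw [D.cw]; exact one_ne_zero)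
  have hwa1 : Tr M D.w ((ψ ⬝ᵥ D.u) • D.a) := by
    have e := (hψ.add (hwb (-(ψ ⬝ᵥ D.v))))
    convert e using 1
    have ex := D.expand_dual ψ
    rw [hψ.1, zero_smul, add_zero] at ex
    rw [neg_smul, ← sub_eq_add_neg]
    exact eq_sub_of_add_eq ex.symm
  have hva : ∀ t : F, Tr M D.v (t • D.a) := fun t => by
    have e := Tr.comm (hvc (t / (ψ ⬝ᵥ D.u))) hwa1 (by rw [smul_dotProduct, D.av, smul_zero])
    rwa [smul_dotProduct, D.cw, smul_eq_mul, mul_one, smul_smul, div_mul_cancel₀ _ hψu] at e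
  have hwa : ∀ t : F, Tr M D.w (t • D.a) := fun t => by
    have e := Tr.comm (hwb (t / (χ ⬝ᵥ D.u))) hva1 (by rw [smul_dotProduct, D.aw, smul_zero])
    rwa [smul_dotProduct, D.bv, smul_eq_mul, mul_one, smul_smul, div_mul_cancel₀ _ hχu] at e
  have toC : ∀ x : Vec, (∀ φ : Vec, φ ⬝ᵥ x = 0 → Tr M x φ) → x ∈ Max.centres M := fun x hx φ h0 => by
    obtain ⟨-, m, hm, e⟩ := hx φ h0
    convert hm using 1
    exact Max.gl_ext fun z => by rw [trv_mulVec, e]
  have cu : D.u ∈ Max.centres M := toC _ fun φ h0 => by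
    have e := (hub (φ ⬝ᵥ D.v)).add (huc (φ ⬝ᵥ D.w))
    convert e using 1
    conv_lhs => rw [D.expand_dual φ, h0]
    module
  have cv : D.v ∈ Max.centres M := toC _ fun φ h0 => by
    have e := (hva (φ ⬝ᵥ D.u)).add (hvc (φ ⬝ᵥ D.w))
    convert e using 1
    conv_lhs => rw [D.expand_dual φ, h0]
    module
  have cw : D.w ∈ Max.centres M := toC _ fun φ h0 => by
    have e := (hwa (φ ⬝ᵥ D.u)).add (hwb (φ ⬝ᵥ D.v))
    convert e using 1
    conv_lhs => rw [D.expand_dual φ, h0]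
    module
  have move : ∀ {x z f : Vec}, Tr M z f → f ⬝ᵥ x = 1 → x ∈ Max.centres M → x + z ∈ Max.centres M := by
    intro x z f ht h1 hx
    obtain ⟨-, m, hm, e⟩ := ht
    have := Max.centres_map hm hx
    rwa [e, h1, one_smul] at this
  refine Max.specialLinear_le_of_centres fun x => ?_
  rw [D.expand x]
  generalize D.a ⬝ᵥ x = α, D.b ⬝ᵥ x = β, D.c ⬝ᵥ x = γ
  by_cases hα : α = 0
  · by_cases hβ : β = 0
    · rw [hα, hβ, zero_smul, zero_smul, zero_add, zero_add]; exact Max.centres_smul γ cw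
    have hz : Tr M ((γ / β) • D.w) D.b := by
      rcases eq_or_ne (γ / β) 0 with e | e
      · rw [e, zero_smul]
        exact ⟨dotProduct_zero _, 1, one_mem M, fun y => by simp⟩
      · have := (hwb (γ / β)).smul_centre e
        rwa [smul_smul, inv_mul_cancel₀ e, one_smul] at this
    have := Max.centres_smul β (move hz D.bv cv)
    convert this using 1
    rw [hα, smul_add, smul_smul, mul_div_cancel₀ _ hβ, zero_smul, zero_add]
  · have hz : ∀ (y : Vec) (s : F), (∀ t : F, Tr M y (t • D.a)) → Tr M (s • y) D.a := fun y s hy => by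
      rcases eq_or_ne s 0 with e | e
      · rw [e, zero_smul]
        exact ⟨dotProduct_zero _, 1, one_mem M, fun y => by simp⟩
      · have := (hy s).smul_centre e
        rwa [smul_smul, inv_mul_cancel₀ e, one_smul] at this
    have := Max.centres_smul α (move ((hz _ (β / α) hva).add_centre (hz _ (γ / α) hwa)) D.au cu)
    convert this using 1
    rw [smul_add, smul_add, smul_smul, smul_smul, mul_div_cancel₀ _ hα, mul_div_cancel₀ _ hα, add_assoc]

/-- either the parameters are everything or the line has few centres -/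
theorem dichotomy :
    Cfsg.Geo.specialLinear (Fin 3) F ≤ M ∨
    ∃ r : ℕ, r ∣ Fintype.card F ∧ 2 ≤ r ∧ r * r ≤ Fintype.card F ∧
      (lineFat M D.b).ncard ≤ (r + 1) * (Fintype.card F - 1) := by
  classical
  obtain ⟨hB, -, hT, hmul⟩ := D.coef_facts
  set A := coef M D.u D.b with hA
  by_cases htop : A = ⊤
  · exact Or.inl (D.sl_le_of_top htop)
  right
  refine ⟨Nat.card A, ?_, ?_, ?_, ?_⟩
  · rw [← Nat.card_eq_fintype_card]; exact AddSubgroup.card_addSubgroup_dvd_card A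
  · exact Finite.one_lt_card_iff_nontrivial.2
      ⟨⟨0, A.zero_mem⟩, ⟨1, D.one_mem_ub⟩, fun e => zero_ne_one (congrArg Subtype.val e)⟩
  · have hpow : ∀ r ∈ A, ∀ k : ℕ, r ^ k ∈ A := fun r hr k => by
      induction k with
      | zero => rw [pow_zero]; exact D.one_mem_ub
      | succ k ih => rw [pow_succ]; exact hmul _ ih _ hr
    have hinv : ∀ r ∈ A, r⁻¹ ∈ A := fun r hr => by
      rcases eq_or_ne r 0 with rfl | h0
      · rw [_root_.inv_zero]; exact A.zero_mem
      have h2 : 2 ≤ Fintype.card F := Fintype.one_lt_card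
      have h1 : r ^ (Fintype.card F - 2) * r = 1 := by
        rw [← pow_succ, show Fintype.card F - 2 + 1 = Fintype.card F - 1 by omega,
          FiniteField.pow_card_sub_one_eq_one r h0]
      rw [← eq_inv_of_mul_eq_one_left h1]
      exact hpow r hr _
    obtain ⟨x, hx⟩ : ∃ x, x ∉ A := by
      by_contra h
      push Not at h
      exact htop (eq_top_iff.2 fun x _ => h x)
    rw [← Nat.card_eq_fintype_card, ← Nat.card_prod]
    refine Nat.card_le_card_of_injective (fun p : A × A => (p.1 : F) + (p.2 : F) * x) fun p p' e => ?_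
    simp only at e
    by_cases h : (p.2 : F) = p'.2
    · rw [h] at e
      exact Prod.ext (Subtype.ext (add_right_cancel e)) (Subtype.ext h)
    · refine absurd ?_ hx
      have hx' : x = ((p'.1 : F) - p.1) * ((p.2 : F) - p'.2)⁻¹ := by
        rw [eq_mul_inv_iff_mul_eq₀ (sub_ne_zero.2 h)]; linear_combination e
      rw [hx']
      exact hmul _ (A.sub_mem p'.1.2 p.1.2) _ (hinv _ (A.sub_mem p.2.2 p'.2.2))
  · let g : Option A × Fˣ → Vec := fun p =>
      (p.2 : F) • (p.1.elim D.u fun l => D.w + (l : F) • D.u)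
    have hsub : lineFat M D.b ⊆ Set.range g := by
      rintro x ⟨hx0, hbx, hxf⟩
      have hx := D.expand x
      rw [hbx, zero_smul, add_zero] at hx
      by_cases hc : D.c ⬝ᵥ x = 0
      · rw [hc, zero_smul, add_zero] at hx
        have ha : D.a ⬝ᵥ x ≠ 0 := fun e => hx0 (by rw [hx, e, zero_smul])
        exact ⟨(none, Units.mk0 _ ha), hx.symm⟩
      · set l := (D.c ⬝ᵥ x)⁻¹ * (D.a ⬝ᵥ x) with hl
        have hy : (D.c ⬝ᵥ x)⁻¹ • x = D.w + l • D.u := by
          refine (congrArg ((D.c ⬝ᵥ x)⁻¹ • ·) hx).trans ?_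
          simp only [smul_add, smul_smul, inv_mul_cancel₀ hc, one_smul, ← hl]
          rw [add_comm]
        have hyc : D.c ⬝ᵥ (D.w + l • D.u) = 1 := by
          rw [dotProduct_add, dotProduct_smul, D.cw, D.cu, smul_zero, add_zero]
        have hyb : D.b ⬝ᵥ (D.w + l • D.u) = 0 := by
          rw [dotProduct_add, dotProduct_smul, D.bw, D.bu, smul_zero, add_zero]
        have hfy : Fat M (D.w + l • D.u) := hy ▸ hxf.smul (inv_ne_zero hc)
        have hlA : l ∈ A := by
          rcases eq_or_ne l 0 with e | e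
          · rw [e]; exact A.zero_mem
          have h1 : Tr M (D.w + l • D.u) D.b := by
            have := mem_coef.1 (show (1 : F) ∈ coef M (D.w + l • D.u) D.b by
              rw [hT _ hfy hyb hyc]; exact D.one_mem_ub)
            rwa [one_smul] at this
          have h2 : Tr M ((-1 : F) • D.w) D.b := by
            have h3 : Tr M D.w ((-1 : F) • D.b) := mem_coef.1 (by
              rw [hT _ D.fw D.bw D.cw]; exact A.neg_mem D.one_mem_ub)
            simpa [smul_smul] using h3.smul_centre (c := (-1 : F)) (neg_ne_zero.2 one_ne_zero)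
          have h4 := h1.add_centre h2
          rw [show D.w + l • D.u + (-1 : F) • D.w = l • D.u by module] at h4
          exact mem_coef.2 (h4.swap e)
        refine ⟨(some ⟨l, hlA⟩, Units.mk0 _ hc), ?_⟩
        show (D.c ⬝ᵥ x) • (D.w + l • D.u) = x
        rw [← hy, smul_inv_smul₀ hc]
    refine (Set.ncard_le_ncard hsub (Set.finite_range g)).trans ?_
    rw [← Nat.card_coe_set_eq]
    refine (Finite.card_range_le g).trans ?_
    rw [Nat.card_prod, Finite.card_option, Nat.card_units, Nat.card_eq_fintype_card (α := F)]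

end Frame

/-- the quadratic inequality between a part and the whole line -/
theorem sums_ineq {q n a b : ℕ} (h1 : n + a + b = q + 1) (h2 : 3 * (n ^ 2 + a ^ 2 + b ^ 2) = q ^ 2 + 4 * q + 1) :
    9 * (n : ℤ) ^ 2 - 6 * ((q : ℤ) + 1) * n + ((q : ℤ) - 1) ^ 2 ≤ 0 := by
  have e1 : (n : ℤ) + a + b = q + 1 := by exact_mod_cast h1
  have e2 : 3 * ((n : ℤ) ^ 2 + (a : ℤ) ^ 2 + (b : ℤ) ^ 2) = (q : ℤ) ^ 2 + 4 * q + 1 := by exact_mod_cast h2
  have e3 : ((q : ℤ) + 1 - n) ^ 2 = ((a : ℤ) + b) ^ 2 := by rw [show (q : ℤ) + 1 - n = a + b by linarith]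
  nlinarith [sq_nonneg ((a : ℤ) - b)]

/-- the parts for sixteen -/
theorem part_sixteen {n a b : ℕ} (h1 : n + a + b = 16 + 1) (h2 : 3 * (n ^ 2 + a ^ 2 + b ^ 2) = 16 ^ 2 + 4 * 16 + 1) :
    n = 3 ∨ n = 7 := by
  have hn : n ≤ 10 := by nlinarith
  have ha : a ≤ 10 := by nlinarith
  obtain rfl : b = 17 - n - a := by omega
  interval_cases n <;> first
    | (left; rfl) | (right; rfl)
    | (interval_cases a <;> norm_num at h2)

/-- at least two points of an orbit lie on each line, unless the order is seven -/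
theorem two_le {q n a b : ℕ} (h8 : 8 ≤ q) (h1 : n + a + b = q + 1)
    (h2 : 3 * (n ^ 2 + a ^ 2 + b ^ 2) = q ^ 2 + 4 * q + 1) : 2 ≤ n := by
  have h := sums_ineq h1 h2
  have h8' : (8 : ℤ) ≤ q := by exact_mod_cast h8
  by_contra hn
  interval_cases n <;> push_cast at h <;> nlinarith

/-- the only order where a subfield line could hold a whole orbit section is sixteen -/
theorem order_sixteen {q r n a b : ℕ} (hpp : IsPrimePow q) (h3 : q % 3 = 1) (h4 : q ≠ 4) (hr : r ∣ q) (hr2 : 2 ≤ r)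
    (hrr : r * r ≤ q) (hn : n ≤ r + 1) (h1 : n + a + b = q + 1)
    (h2 : 3 * (n ^ 2 + a ^ 2 + b ^ 2) = q ^ 2 + 4 * q + 1) : q = 16 ∧ n = 3 ∧ r ≤ 4 := by
  have h := sums_ineq h1 h2
  obtain ⟨p, f, hp, hf, rfl⟩ := hpp
  rw [← Nat.prime_iff] at hp
  rcases Nat.lt_or_ge (p ^ f) 64 with hlt | hge
  · have hf2 : 2 ≤ f := by
      rcases Nat.lt_or_ge f 2 with h' | h'
      · obtain rfl : f = 1 := by omega
        rw [pow_one] at hr hrr
        rcases (Nat.dvd_prime hp).1 hr with rfl | rfl <;> nlinarith [hp.two_le]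
      · exact h'
    have hp8 : p < 8 := by
      by_contra hc
      have := (Nat.pow_le_pow_left (not_lt.1 hc) 2).trans (Nat.pow_le_pow_right hp.pos hf2)
      omega
    have hf6 : f < 6 := by
      by_contra hc
      have := (Nat.pow_le_pow_left hp.two_le 6).trans (Nat.pow_le_pow_right hp.pos (not_lt.1 hc))
      omega
    have hq : p ^ f = 16 ∨ p ^ f = 25 ∨ p ^ f = 49 := by
      interval_cases p <;> first
        | (exfalso; revert hp; norm_num; done)
        | interval_cases f <;> first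
          | (norm_num at h3; done) | (norm_num at h4; done) | (norm_num at hlt; done) | norm_num
    generalize p ^ f = q at h h1 h2 hr hrr hlt hq ⊢
    rcases hq with rfl | rfl | rfl
    · have hr4 : r ≤ 4 := by nlinarith
      refine ⟨rfl, ?_, hr4⟩
      rcases part_sixteen h1 h2 with e | e <;> omega
    · exfalso
      have hr5 : r ≤ 5 := by nlinarith
      have hn6 : n ≤ 6 := by omega
      push_cast at h
      obtain rfl : n = 6 := by
        by_contra hn'
        have hn5 : n ≤ 5 := by omega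
        have : (n : ℤ) ≤ 5 := by exact_mod_cast hn5
        nlinarith [sq_nonneg (n : ℤ)]
      obtain rfl : b = 20 - a := by omega
      have ha : a ≤ 20 := by omega
      interval_cases a <;> norm_num at h2
    · exfalso
      have hr7 : r ≤ 7 := by nlinarith
      have hn8 : (n : ℤ) ≤ 8 := by
        have : n ≤ 8 := by omega
        exact_mod_cast this
      push_cast at h
      nlinarith [sq_nonneg (n : ℤ)]
  · exfalso
    have hq : (64 : ℤ) ≤ ((p ^ f : ℕ) : ℤ) := by exact_mod_cast hge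
    have hr' : (r : ℤ) * r ≤ ((p ^ f : ℕ) : ℤ) := by exact_mod_cast hrr
    have hn' : (n : ℤ) ≤ r + 1 := by exact_mod_cast hn
    generalize ((p ^ f : ℕ) : ℤ) = Q at h hq hr'
    have hA : 16 * (r : ℤ) ≤ Q + 64 := by nlinarith [sq_nonneg ((r : ℤ) - 8)]
    nlinarith [mul_le_mul_of_nonneg_left hn' (show (0 : ℤ) ≤ Q + 1 by linarith),
      mul_le_mul_of_nonneg_left hA (show (0 : ℤ) ≤ Q + 1 by linarith),
      mul_le_mul_of_nonneg_right hq (show (0 : ℤ) ≤ Q by linarith), sq_nonneg (n : ℤ)]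

theorem ncard_multiples_le (u : Vec) :
    ({x : Vec | ∃ c : F, c ≠ 0 ∧ x = c • u}).ncard ≤ Fintype.card F - 1 := by
  classical
  have e : {x : Vec | ∃ c : F, c ≠ 0 ∧ x = c • u} ⊆ Set.range fun c : Fˣ => (c : F) • u := by
    rintro x ⟨c, hc, rfl⟩
    exact ⟨Units.mk0 c hc, rfl⟩
  refine (Set.ncard_le_ncard e (Set.finite_range _)).trans ?_
  rw [← Nat.card_coe_set_eq]
  refine (Finite.card_range_le _).trans ?_
  rw [Nat.card_units, Nat.card_eq_fintype_card]

/-- two independent functionals have a single common point -/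
theorem common_zero {u x φ ψ : Vec} (hu : u ≠ 0) (hφ : φ ≠ 0) (hind : ∀ c : F, ψ ≠ c • φ) (h1 : φ ⬝ᵥ u = 0)
    (h2 : ψ ⬝ᵥ u = 0) (h3 : φ ⬝ᵥ x = 0) (h4 : ψ ⬝ᵥ x = 0) : ∃ c : F, x = c • u := by
  by_contra hno
  push Not at hno
  let g : F × F → {y : Vec // φ ⬝ᵥ y = 0} := fun p =>
    ⟨p.1 • u + p.2 • x, by simp [dotProduct_add, dotProduct_smul, h1, h3]⟩
  have hinj : Function.Injective g := by
    rintro ⟨s, t⟩ ⟨s', t'⟩ e
    have e' := congrArg Subtype.val e
    simp only [g] at e'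
    have e'' : (t - t') • x = (s' - s) • u := by linear_combination (norm := module) e'
    by_cases ht : t = t'
    · subst ht
      rw [sub_self, zero_smul] at e''
      rw [sub_eq_zero.1 ((smul_eq_zero.1 e''.symm).resolve_right hu)]
    · refine absurd ?_ (hno ((t - t')⁻¹ * (s' - s)))
      rw [← smul_smul, ← e'', inv_smul_smul₀ (sub_ne_zero.2 ht)]
  have : Fintype {y : Vec // φ ⬝ᵥ y = 0} := Fintype.ofFinite _
  have hb := (Fintype.bijective_iff_injective_and_card g).2 ⟨hinj, by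
    rw [← Nat.card_eq_fintype_card, ← Nat.card_eq_fintype_card, card_ker hφ, Nat.card_prod,
      Nat.card_eq_fintype_card, sq]⟩
  obtain ⟨i, hi⟩ := Function.ne_iff.1 hφ
  simp only [Pi.zero_apply] at hi
  set z : Vec := Pi.single i (1 / φ i) with hz
  have hz1 : φ ⬝ᵥ z = 1 := by rw [hz, dotProduct_single, mul_one_div_cancel hi]
  refine hind (ψ ⬝ᵥ z) (dotProduct_eq _ _ fun y => ?_)
  have hy : φ ⬝ᵥ (y - (φ ⬝ᵥ y) • z) = 0 := by
    rw [dotProduct_sub, dotProduct_smul, hz1, smul_eq_mul, mul_one, sub_self]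
  obtain ⟨⟨s, t⟩, e⟩ := hb.2 ⟨_, hy⟩
  have := congrArg (ψ ⬝ᵥ ·) (congrArg Subtype.val e)
  simp only [g, dotProduct_add, dotProduct_sub, dotProduct_smul, smul_eq_mul, h2, h4] at this
  rw [smul_dotProduct, smul_eq_mul]
  linear_combination -this

theorem Frame.exists_of (u v w φ ψ : Vec) (hu : Fat M u) (hv : Fat M v) (hw : Fat M w) (h : Tr M u φ) (h' : Tr M u ψ)
    (hφv : φ ⬝ᵥ v = 0) (hψv : ψ ⬝ᵥ v ≠ 0) (hψw : ψ ⬝ᵥ w = 0) (hφw : φ ⬝ᵥ w ≠ 0) :
    ∃ D : Frame M, D.u = u := by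
  set v' := (ψ ⬝ᵥ v)⁻¹ • v with hv'
  set w' := (φ ⬝ᵥ w)⁻¹ • w with hw'
  have bv : ψ ⬝ᵥ v' = 1 := by rw [hv', dotProduct_smul, smul_eq_mul, inv_mul_cancel₀ hψv]
  have bw : ψ ⬝ᵥ w' = 0 := by rw [hw', dotProduct_smul, hψw, smul_zero]
  have cv : φ ⬝ᵥ v' = 0 := by rw [hv', dotProduct_smul, hφv, smul_zero]
  have cw : φ ⬝ᵥ w' = 1 := by rw [hw', dotProduct_smul, smul_eq_mul, inv_mul_cancel₀ hφw]
  have hnot : u ∉ Submodule.span F {v', w'} := by
    intro hm
    obtain ⟨s, t, e⟩ := Submodule.mem_span_pair.1 hm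
    have e1 := congrArg (ψ ⬝ᵥ ·) e
    have e2 := congrArg (φ ⬝ᵥ ·) e
    simp only [dotProduct_add, dotProduct_smul, bv, bw, cv, cw, h.1, h'.1, smul_eq_mul, mul_one, mul_zero, add_zero,
      zero_add] at e1 e2
    exact hu.1 (by rw [← e, e1, e2, zero_smul, zero_smul, add_zero])
  obtain ⟨a, ha, hau⟩ := exists_row_of_not_mem hnot
  exact ⟨⟨u, v', w', a, ψ, φ, hau, ha _ (Submodule.subset_span (by simp)), ha _ (Submodule.subset_span (by simp)),
    h'.1, bv, bw, h.1, cv, cw, h', h, hu, hv.smul (inv_ne_zero hψv), hw.smul (inv_ne_zero hφw)⟩, rfl⟩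

/-- elements of degree two over the base field are scalars -/
theorem eq_scalar_of_quadratic (hK : Cfsg.Geo.IsFieldSubalgebra 3 K) (h2 : (2 : F) ≠ 0) {j : Mat} (hj : j ∈ K)
    {α β : F} (h : j * j = α • (1 : Mat) + β • j) : ∃ c : F, j = c • (1 : Mat) := by
  set X : Mat := (2 : F) • j - β • (1 : Mat) with hX
  have hXK : X ∈ K := K.sub_mem (K.smul_mem hj _) (K.smul_mem K.one_mem _)
  have hXX : X * X = (β * β + 4 * α) • (1 : Mat) := by
    rw [hX]
    simp only [sub_mul, mul_sub, smul_mul_assoc, mul_smul_comm, one_mul, mul_one, h, smul_add, smul_smul]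
    match_scalars <;> ring
  have fin : ∀ e : F, X = e • (1 : Mat) → ∃ c : F, j = c • (1 : Mat) := fun e he => by
    refine ⟨(e + β) / 2, smul_right_injective _ h2 ?_⟩
    show (2 : F) • j = (2 : F) • _
    rw [smul_smul, mul_div_cancel₀ _ h2, add_smul, ← he, hX, sub_add_cancel]
  have dom : ∀ {x y : Mat}, x ∈ K → x * y = 0 → x = 0 ∨ y = 0 := fun {x y} hx hxy => by
    by_cases h0 : x = 0
    · exact Or.inl h0
    obtain ⟨z, -, e⟩ := hK.inv x hx h0
    exact Or.inr (by rw [← one_mul y, ← mul_eq_one_comm.1 e, mul_assoc, hxy, mul_zero])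
  set D := β * β + 4 * α with hD
  rcases eq_or_ne D 0 with e0 | e0
  · rw [e0, zero_smul] at hXX
    refine fin 0 ?_
    rw [zero_smul]
    exact (dom hXK hXX).elim id id
  have hdet : X.det * X.det = D ^ 3 := by
    rw [← Matrix.det_mul, hXX, Matrix.det_smul, Matrix.det_one, mul_one, Fintype.card_fin]
  set e := X.det / D with he
  have hee : e * e = D := by rw [he, div_mul_div_comm, hdet, div_eq_iff (mul_ne_zero e0 e0)]; ring
  have hf : (X - e • (1 : Mat)) * (X + e • (1 : Mat)) = 0 := by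
    simp only [sub_mul, mul_add, smul_mul_assoc, mul_smul_comm, one_mul, mul_one, hXX]
    match_scalars <;> first | ring1 | linear_combination -hee
  rcases dom (K.sub_mem hXK (K.smul_mem K.one_mem _)) hf with h0 | h0
  · exact fin e (sub_eq_zero.1 h0)
  · exact fin (-e) (by rw [neg_smul]; exact eq_neg_of_add_eq_zero_left h0)

/-- a non-scalar element of cube determinant in odd characteristic other than three -/
theorem exists_cube (hK : Cfsg.Geo.IsFieldSubalgebra 3 K) (h2 : (2 : F) ≠ 0) (h3 : (3 : F) ≠ 0) :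
    ∃ k ∈ K, (∀ c : F, k ≠ c • (1 : Mat)) ∧ ∃ c : F, k.det = c ^ 3 := by
  obtain ⟨j, hj, hns⟩ : ∃ j ∈ K, ∀ c : F, j ≠ c • (1 : Mat) := by
    by_contra hno
    push Not at hno
    have hle : K ≤ (⊥ : Subalgebra F Mat) := fun x hx => by
      obtain ⟨c, rfl⟩ := hno x hx
      exact Algebra.mem_bot.2 ⟨c, Algebra.algebraMap_eq_smul_one c⟩
    have := hK.finrank_eq
    rw [le_bot_iff.1 hle, Subalgebra.finrank_bot] at this
    omega
  have cube : ∀ x ∈ K, (∀ c : F, x ^ 3 ≠ c • (1 : Mat)) →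
      ∃ k ∈ K, (∀ c : F, k ≠ c • (1 : Mat)) ∧ ∃ c : F, k.det = c ^ 3 := fun x hx h =>
    ⟨x ^ 3, K.pow_mem hx 3, h, x.det, Matrix.det_pow _ _⟩
  by_contra hno
  obtain ⟨c₁, e₁⟩ : ∃ c : F, (j + 1) ^ 3 = c • (1 : Mat) := by
    by_contra h; push Not at h; exact hno (cube _ (K.add_mem hj K.one_mem) h)
  obtain ⟨c₂, e₂⟩ : ∃ c : F, (j - 1) ^ 3 = c • (1 : Mat) := by
    by_contra h; push Not at h; exact hno (cube _ (K.sub_mem hj K.one_mem) h)
  have h6 : (6 : F) ≠ 0 := by
    rw [show (6 : F) = 2 * 3 by norm_num]; exact mul_ne_zero h2 h3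
  have e : (6 : F) • (j * j) = (c₁ - c₂ - 2) • (1 : Mat) := by
    rw [sub_smul, sub_smul, ← e₁, ← e₂]
    simp only [pow_succ, pow_zero, one_mul, add_mul, mul_add, sub_mul, mul_sub, mul_one]
    module
  obtain ⟨c, hc⟩ := eq_scalar_of_quadratic hK h2 hj (α := (6 : F)⁻¹ * (c₁ - c₂ - 2)) (β := 0)
    (by rw [zero_smul, add_zero, ← smul_smul, ← e, inv_smul_smul₀ h6])
  exact hns c hc

/-- three independent centres in the orbit, order seven -/
theorem frame_seven (hK : Cfsg.Geo.IsFieldSubalgebra 3 K) (hM : CycIn K M) (h7 : Fintype.card F = 7)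
    {u φ₀ ψ₀ : Vec} (hu : Fat M u) (h : Tr M u φ₀) (h' : Tr M u ψ₀) (hφ : φ₀ ≠ 0) (hind : ∀ c : F, ψ₀ ≠ c • φ₀) :
    ∃ D : Frame M, D.u = u := by
  have hp : Fact (Nat.card F).Prime := ⟨by rw [Nat.card_eq_fintype_card, h7]; norm_num⟩
  have hchar : ringChar F = 7 := by
    obtain ⟨⟨k, hk⟩, hpr, hc⟩ := FiniteField.card F (ringChar F)
    rw [h7] at hc
    exact ((Nat.prime_dvd_prime_iff_eq hpr (by norm_num)).1 (hc ▸ dvd_pow_self _ hk.ne'))
  have : CharP F 7 := hchar ▸ ringChar.charP F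
  have hnat : ∀ m : ℕ, ¬ 7 ∣ m → (m : F) ≠ 0 := fun m hm e => hm ((CharP.cast_eq_zero_iff F 7 m).1 e)
  obtain ⟨k, hk, hks, hkd⟩ := exists_cube hK (by exact_mod_cast hnat 2 (by norm_num))
    (by exact_mod_cast hnat 3 (by norm_num))
  have hk0 : k ≠ 0 := fun e => hks 0 (by rw [e, zero_smul])
  have hkk0 : k * k ≠ 0 := fun e => by
    obtain ⟨y, -, ey⟩ := hK.inv k hk hk0
    exact hk0 (by rw [← mul_one k, ← ey, ← mul_assoc, e, zero_mul])
  obtain ⟨d, hd⟩ := hkd
  have hv : Fat M (k *ᵥ u) := Orb.fat hK hM hu ⟨k, hk, hk0, ⟨d, hd⟩, rfl⟩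
  have hw : Fat M ((k * k) *ᵥ u) :=
    Orb.fat hK hM hu ⟨k * k, K.mul_mem hk hk, hkk0, ⟨d * d, by rw [Matrix.det_mul, hd, mul_pow]⟩, rfl⟩
  have indep : ∀ s t r : F, s • u + t • (k *ᵥ u) + r • ((k * k) *ᵥ u) = 0 → s = 0 ∧ t = 0 ∧ r = 0 := by
    intro s t r e
    have hz : s • (1 : Mat) + t • k + r • (k * k) = 0 := by
      have := eq_scalar hK (K.add_mem (K.add_mem (K.smul_mem K.one_mem s) (K.smul_mem hk t))
        (K.smul_mem (K.mul_mem hk hk) r)) hu.1 (c := 0) (by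
          rw [Matrix.add_mulVec, Matrix.add_mulVec, Matrix.smul_mulVec, Matrix.smul_mulVec, Matrix.smul_mulVec,
            Matrix.one_mulVec, zero_smul, e])
      rwa [zero_smul] at this
    have hr : r = 0 := by
      by_contra hr
      obtain ⟨c, hc⟩ := eq_scalar_of_quadratic hK (by exact_mod_cast hnat 2 (by norm_num)) hk
        (α := -(r⁻¹ * s)) (β := -(r⁻¹ * t)) (by
          have := congrArg (r⁻¹ • ·) hz
          simp only [smul_add, smul_smul, inv_mul_cancel₀ hr, one_smul, smul_zero] at this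
          linear_combination (norm := module) this)
      exact hks c hc
    rw [hr, zero_smul, add_zero] at hz
    have ht : t = 0 := by
      by_contra ht
      refine hks (-(t⁻¹ * s)) ?_
      have := congrArg (t⁻¹ • ·) hz
      simp only [smul_add, smul_smul, inv_mul_cancel₀ ht, one_smul, smul_zero] at this
      linear_combination (norm := module) this
    rw [ht, zero_smul, add_zero] at hz
    refine ⟨?_, ht, hr⟩
    simpa using hz
  have top : ∀ {f : Vec}, Tr M u f → ∀ c : F, Tr M u (c • f) := fun {f} hf c => by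
    rcases AddSubgroup.eq_bot_or_eq_top_of_prime_card (coef M u f) with e | e
    · have h1 : (1 : F) ∈ coef M u f := by rw [mem_coef, one_smul]; exact hf
      rw [e, AddSubgroup.mem_bot] at h1
      exact absurd h1 one_ne_zero
    · exact mem_coef.1 (by rw [e]; trivial)
  have all : ∀ f : Vec, f ⬝ᵥ u = 0 → Tr M u f := by
    intro f hf
    let g : F × F → {y : Vec // u ⬝ᵥ y = 0} := fun p =>
      ⟨p.1 • φ₀ + p.2 • ψ₀, by rw [dotProduct_comm, add_dotProduct, smul_dotProduct, smul_dotProduct, h.1, h'.1]; simp⟩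
    have hinj : Function.Injective g := by
      rintro ⟨s, t⟩ ⟨s', t'⟩ e
      have e' := congrArg Subtype.val e
      simp only [g] at e'
      have e'' : (t - t') • ψ₀ = (s' - s) • φ₀ := by linear_combination (norm := module) e'
      by_cases ht : t = t'
      · subst ht
        rw [sub_self, zero_smul] at e''
        rw [sub_eq_zero.1 ((smul_eq_zero.1 e''.symm).resolve_right hφ)]
      · refine absurd ?_ (hind ((t - t')⁻¹ * (s' - s)))
        rw [← smul_smul, ← e'', inv_smul_smul₀ (sub_ne_zero.2 ht)]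
    have : Fintype {y : Vec // u ⬝ᵥ y = 0} := Fintype.ofFinite _
    have hb := (Fintype.bijective_iff_injective_and_card g).2 ⟨hinj, by
      rw [← Nat.card_eq_fintype_card, ← Nat.card_eq_fintype_card, card_ker hu.1, Nat.card_prod,
        Nat.card_eq_fintype_card, sq]⟩
    obtain ⟨⟨s, t⟩, e⟩ := hb.2 ⟨f, by rw [dotProduct_comm]; exact hf⟩
    have e' : s • φ₀ + t • ψ₀ = f := congrArg Subtype.val e
    rw [← e']
    exact (top h s).add (top h' t)
  have n1 : (k * k) *ᵥ u ∉ Submodule.span F {u, k *ᵥ u} := fun hm => by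
    obtain ⟨s, t, e⟩ := Submodule.mem_span_pair.1 hm
    exact one_ne_zero (neg_eq_zero.1 (indep s t (-1) (by rw [e, neg_one_smul, add_neg_cancel])).2.2)
  have n2 : k *ᵥ u ∉ Submodule.span F {u, (k * k) *ᵥ u} := fun hm => by
    obtain ⟨s, t, e⟩ := Submodule.mem_span_pair.1 hm
    exact one_ne_zero (neg_eq_zero.1 (indep s (-1) t (by rw [← e]; module)).2.1)
  obtain ⟨φ, hφ1, hφw⟩ := exists_row_of_not_mem n1
  obtain ⟨ψ, hψ1, hψv⟩ := exists_row_of_not_mem n2
  exact Frame.exists_of u _ _ φ ψ hu hv hw (all φ (hφ1 _ (Submodule.subset_span (by simp))))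
    (all ψ (hψ1 _ (Submodule.subset_span (by simp)))) (hφ1 _ (Submodule.subset_span (by simp)))
    (by rw [hψv]; exact one_ne_zero) (hψ1 _ (Submodule.subset_span (by simp)))
    (by rw [hφw]; exact one_ne_zero)

theorem exists_frame (hK : Cfsg.Geo.IsFieldSubalgebra 3 K) (hq4 : Fintype.card F ≠ 4) (hM : CycIn K M)
    {u φ ψ : Vec} (hu : Fat M u) (h : Tr M u φ) (h' : Tr M u ψ) (hφ : φ ≠ 0) (hind : ∀ c : F, ψ ≠ c • φ) :
    ∃ D : Frame M, D.u = u := by
  by_cases h7 : Fintype.card F = 7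
  · exact frame_seven hK hM h7 hu h h' hφ hind
  have hψ : ψ ≠ 0 := fun e => hind 0 (by rw [e, zero_smul])
  have two : ∀ f : Vec, f ≠ 0 → f ⬝ᵥ u = 0 → ∃ x, Fat M x ∧ f ⬝ᵥ x = 0 ∧ ∀ c : F, x ≠ c • u := by
    intro f hf hfu
    obtain ⟨n, hn, hcase⟩ := count hK hu.1 hf (K := K)
    have hq := Fintype.one_lt_card (α := F)
    have h2 : 2 ≤ n := by
      rcases hcase with ⟨-, e⟩ | ⟨h3, a, b, h1, h2⟩
      · omega
      · exact two_le (by omega) h1 h2
    by_contra hno
    push Not at hno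
    have hsub : lineOrb K u f ⊆ {x : Vec | ∃ c : F, c ≠ 0 ∧ x = c • u} := fun x hx => by
      obtain ⟨c, rfl⟩ := hno x (Orb.fat hK hM hu hx.2.2) hx.2.1
      exact ⟨c, fun e => hx.1 (by rw [e, zero_smul]), rfl⟩
    have := (Set.ncard_le_ncard hsub (Set.toFinite _)).trans (ncard_multiples_le u)
    rw [hn] at this
    nlinarith [Nat.sub_add_cancel hq.le]
  obtain ⟨v, hv, hφv, hvu⟩ := two φ hφ h.1
  obtain ⟨w, hw, hψw, hwu⟩ := two ψ hψ h'.1
  refine Frame.exists_of u v w φ ψ hu hv hw h h' hφv (fun e => ?_) hψw (fun e => ?_)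
  · obtain ⟨c, hc⟩ := common_zero hu.1 hφ hind h.1 h'.1 hφv e
    exact hvu c hc
  · obtain ⟨c, hc⟩ := common_zero hu.1 hφ hind h.1 h'.1 e hψw
    exact hwu c hc

/-- the order sixteen: translations on a line through a centre leave no room for three or seven points -/
theorem Frame.no_sixteen (hK : Cfsg.Geo.IsFieldSubalgebra 3 K) (hM : CycIn K M) (D : Frame M)
    (h16 : Fintype.card F = 16) (hb : (lineFat M D.b).ncard ≤ 5 * 15) : False := by
  classical
  have small : ∀ y : Vec, Fat M y → ∀ f : Vec, f ≠ 0 → ∃ n, (lineOrb K y f).ncard = n * 15 ∧ (n = 3 ∨ n = 7) := by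
    intro y hy f hf
    obtain ⟨n, hn, hcase⟩ := count hK hy.1 hf (K := K)
    rw [h16] at hn hcase
    refine ⟨n, hn, ?_⟩
    rcases hcase with ⟨h3, -⟩ | ⟨-, a, b, h1, h2⟩
    · exact absurd (by norm_num) h3
    · exact part_sixteen h1 h2
  have hb0 : D.b ≠ 0 := fun e => one_ne_zero (by rw [← D.bv, e, zero_dotProduct])
  have allOrb : ∀ y : Vec, Fat M y → Orb K D.u y := by
    intro y hy
    by_contra hne
    obtain ⟨n, hn, hn'⟩ := small _ D.fu D.b hb0
    obtain ⟨m, hm, hm'⟩ := small y hy D.b hb0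
    have hdis : Disjoint (lineOrb K D.u D.b) (lineOrb K y D.b) :=
      Set.disjoint_left.2 fun x hx hx' => hne (Orb.of_common hK hx.2.2 hx'.2.2)
    have := Set.ncard_le_ncard (Set.union_subset (lineOrb_subset hK hM D.fu (φ := D.b))
      (lineOrb_subset hK hM hy (φ := D.b))) (Set.toFinite _)
    rw [Set.ncard_union_eq hdis, hn, hm] at this
    omega
  obtain ⟨ω, hω0, hω1⟩ : ∃ ω : F, ω ≠ 0 ∧ ω ≠ 1 := by
    by_contra hno
    push Not at hno
    have : Fintype.card F ≤ 2 := by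
      rw [← Finset.card_univ]
      refine (Finset.card_le_card (t := {0, 1}) fun x _ => ?_).trans Finset.card_le_two
      rcases eq_or_ne x 0 with e | e
      · simp [e]
      · simp [hno x e]
    omega
  set x : Vec := D.v + ω • D.w with hx
  set χ : Vec := ω • D.b - D.c with hχ
  have bx : D.b ⬝ᵥ x = 1 := by simp [hx, dotProduct_add, dotProduct_smul, D.bv, D.bw]
  have cx : D.c ⬝ᵥ x = ω := by simp [hx, dotProduct_add, dotProduct_smul, D.cv, D.cw]
  have hχ0 : χ ≠ 0 := fun e => by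
    have := congrArg (· ⬝ᵥ D.v) e
    simp [hχ, sub_dotProduct, smul_dotProduct, D.bv, D.cv, hω0] at this
  obtain ⟨n, hn, hn'⟩ := small _ D.fu χ hχ0
  have heq : lineOrb K D.u χ = lineFat M χ :=
    Set.Subset.antisymm (lineOrb_subset hK hM D.fu) fun y hy => ⟨hy.1, hy.2.1, allOrb y hy.2.2⟩
  set S : Set F := {l | Fat M (x + l • D.u)} with hS
  -- the line as multiples of the centre and of the points indexed by `S`
  let g : Option S × Fˣ → Vec := fun p => (p.2 : F) • p.1.elim D.u fun l => x + (l : F) • D.u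
  have hg : Function.Injective g := by
    rintro ⟨o, s⟩ ⟨o', s'⟩ e
    have e1 := congrArg (D.b ⬝ᵥ ·) e
    rcases o with _ | l <;> rcases o' with _ | l' <;>
      simp [g, dotProduct_add, dotProduct_smul, D.bu, bx] at e1 e ⊢
    · exact Units.ext (smul_left_injective F D.fu.1 e)
    · exact absurd e1.symm s'.ne_zero
    · obtain rfl := Units.ext e1
      rw [← smul_add, ← smul_add] at e
      have := smul_right_injective Vec s.ne_zero e
      exact ⟨Subtype.ext (smul_left_injective F D.fu.1 (add_left_cancel this)), rfl⟩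
  have hrange : Set.range g = lineFat M χ := by
    ext y
    constructor
    · rintro ⟨⟨o, s⟩, rfl⟩
      rcases o with _ | ⟨l, hl⟩
      · refine ⟨smul_ne_zero s.ne_zero D.fu.1, ?_, D.fu.smul s.ne_zero⟩
        simp [g, hχ, sub_dotProduct, smul_dotProduct, dotProduct_smul, D.bu, D.cu]
      · refine ⟨smul_ne_zero s.ne_zero hl.1, ?_, hl.smul s.ne_zero⟩
        simp [g, hχ, sub_dotProduct, smul_dotProduct, dotProduct_smul, dotProduct_add, D.bu, D.cu, bx, cx]
    · rintro ⟨hy0, hy1, hyf⟩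
      have hy := D.expand y
      rw [hχ, sub_dotProduct, smul_dotProduct, sub_eq_zero, smul_eq_mul] at hy1
      rw [← hy1] at hy
      by_cases hby : D.b ⬝ᵥ y = 0
      · rw [hby, mul_zero, zero_smul, zero_smul, add_zero, add_zero] at hy
        exact ⟨(none, Units.mk0 (D.a ⬝ᵥ y) fun e => hy0 (by rw [hy, e, zero_smul])), hy.symm⟩
      · set l := (D.b ⬝ᵥ y)⁻¹ * (D.a ⬝ᵥ y) with hl
        have e : (D.b ⬝ᵥ y)⁻¹ • y = x + l • D.u := by
          refine (congrArg ((D.b ⬝ᵥ y)⁻¹ • ·) hy).trans ?_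
          simp only [smul_add, smul_smul, inv_mul_cancel₀ hby, one_smul, ← hl, hx]
          rw [mul_comm ω, ← mul_assoc, inv_mul_cancel₀ hby, one_mul]
          abel
        have hlS : l ∈ S := by
          show Fat M (x + l • D.u)
          rw [← e]; exact hyf.smul (inv_ne_zero hby)
        refine ⟨(some ⟨l, hlS⟩, Units.mk0 _ hby), ?_⟩
        show (D.b ⬝ᵥ y) • (x + l • D.u) = y
        rw [← e, smul_inv_smul₀ hby]
  have hcard : (lineFat M χ).ncard = (Nat.card S + 1) * 15 := by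
    rw [← hrange, ← Nat.card_coe_set_eq, Nat.card_range_of_injective hg, Nat.card_prod, Finite.card_option,
      Nat.card_units, Nat.card_eq_fintype_card (α := F), h16]
  -- the translations
  have shift : ∀ {f : Vec} {d : F}, Tr M D.u f → f ⬝ᵥ x = d → f ⬝ᵥ D.u = 0 → ∀ l ∈ S, l + d ∈ S := by
    intro f d hf hfx hfu l hl
    obtain ⟨-, m, hm, e⟩ := hf
    have := Fat.map hl hm
    rw [e, dotProduct_add, dotProduct_smul, hfx, hfu, smul_zero, add_zero, add_assoc, ← add_smul] at this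
    exact this
  let St : AddSubgroup F :=
    { carrier := {t | ∀ l, l ∈ S ↔ l + t ∈ S}
      zero_mem' := fun l => by rw [add_zero]
      add_mem' := fun {s t} hs ht l => by rw [hs l, ← add_assoc]; exact ht _
      neg_mem' := fun {t} ht l => by
        have := ht (l + -t)
        rw [neg_add_cancel_right] at this
        exact this.symm }
  have inSt : ∀ {f : Vec} {d : F}, Tr M D.u f → f ⬝ᵥ x = d → f ⬝ᵥ D.u = 0 → d ∈ St := by
    intro f d hf hfx hfu l
    refine ⟨shift hf hfx hfu l, fun hl => ?_⟩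
    have := shift hf.neg (d := -d) (by rw [neg_dotProduct, hfx]) (by rw [neg_dotProduct, hfu, neg_zero]) _ hl
    rwa [add_neg_cancel_right] at this
  have h3 : 3 ≤ Nat.card St := by
    let pts : Finset F := {0, 1, ω}
    have hpts : ∀ z ∈ pts, z ∈ St := by
      intro z hz
      simp only [pts, Finset.mem_insert, Finset.mem_singleton] at hz
      rcases hz with rfl | rfl | rfl
      · exact St.zero_mem
      · exact inSt D.ub bx D.bu
      · exact inSt D.uc cx D.cu
    have : pts.card ≤ Nat.card St := by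
      rw [← Nat.card_eq_finsetCard]
      exact Nat.card_le_card_of_injective (fun z : pts => (⟨z, hpts z z.2⟩ : St)) fun a b e =>
        Subtype.ext (congrArg (fun z : St => (z : F)) e)
    simpa [pts, Finset.card_insert_of_notMem, hω0.symm, hω1.symm] using this
  have h4 : 4 ∣ Nat.card S := by
    have hsat : S = QuotientAddGroup.mk ⁻¹' ((QuotientAddGroup.mk (s := St)) '' S) := by
      refine Set.Subset.antisymm (Set.subset_preimage_image _ _) ?_
      rintro l ⟨l', hl', e⟩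
      have hmem : -l' + l ∈ St := QuotientAddGroup.eq.1 e
      have := (hmem l').1 hl'
      rwa [add_neg_cancel_left] at this
    have hd : Nat.card St ∣ Nat.card S := by
      rw [hsat, Nat.card_congr (QuotientAddGroup.preimageMkEquivAddSubgroupProdSet St _), Nat.card_prod]
      exact dvd_mul_right _ _
    have h16' : Nat.card St ∣ 2 ^ 4 := by
      have := AddSubgroup.card_addSubgroup_dvd_card St
      rw [Nat.card_eq_fintype_card, Nat.card_eq_fintype_card (α := F), h16] at this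
      rw [Nat.card_eq_fintype_card]
      exact this
    obtain ⟨i, hi, e⟩ := (Nat.dvd_prime_pow Nat.prime_two).1 h16'
    refine dvd_trans ?_ hd
    rw [e] at h3 ⊢
    interval_cases i <;> first | omega | norm_num
  rw [heq, hcard] at hn
  obtain ⟨t, ht⟩ := h4
  omega

/-- A centre with two axes gives the special linear group. -/
theorem Fat.sl_le (hK : Cfsg.Geo.IsFieldSubalgebra 3 K) (hq4 : Fintype.card F ≠ 4)
    (hMS : M ≤ Cfsg.Geo.specialLinear (Fin 3) F) (hM : CycIn K M) {u φ ψ : Vec} (hu : u ≠ 0) (hφ : φ ≠ 0)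
    (h : Tr M u φ) (h' : Tr M u ψ) (hind : ∀ c : F, ψ ≠ c • φ) : Cfsg.Geo.specialLinear (Fin 3) F ≤ M := by
  have hf : Fat M u := ⟨hu, φ, ψ, h, h', hφ, hind⟩
  obtain ⟨D, -⟩ := exists_frame hK hq4 hM hf h h' hφ hind
  rcases D.dichotomy with hSL | ⟨r, hr, hr2, hrr, hle⟩
  · exact hSL
  exfalso
  have hb0 : D.b ≠ 0 := fun e => one_ne_zero (by rw [← D.bv, e, zero_dotProduct])
  obtain ⟨n, hn, hcase⟩ := count hK D.fu.1 hb0 (K := K)
  have hq := Fintype.one_lt_card (α := F)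
  have hnr : n ≤ r + 1 := by
    have := (hn.symm.le).trans ((Set.ncard_le_ncard (lineOrb_subset hK hM D.fu) (Set.toFinite _)).trans hle)
    exact Nat.le_of_mul_le_mul_right this (by omega)
  rcases hcase with ⟨-, e⟩ | ⟨h3, a, b, h1, h2⟩
  · nlinarith
  · obtain ⟨h16, -, h4⟩ := order_sixteen (FiniteField.isPrimePow_card F) h3 hq4 hr hr2 hrr hnr h1 h2
    refine D.no_sixteen hK hM h16 (hle.trans ?_)
    rw [h16]
    omega

end Cfsg.Agent.Forms.Max.SL3.Singer
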