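import Cfsg.Agent.Lib.Forms.Max.SL3.Singer.Basic
import Cfsg.Agent.S0205

/-!
# Overgroups of odd order of the cubic field subgroup normalise the field

An abelian subgroup normalised by a generator of the subgroup of determinant one lies in the field. The last
non-scalar derived subgroup of a group of odd order is such a subgroup, as otherwise two non-commuting members
would generate at most nine cosets modulo scalars.
-/

set_option autoImplicit false
set_option linter.unusedSectionVars false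

namespace Cfsg.Agent.Forms.Max.SL3.Singer.Odd

open Matrix Polynomial
open scoped commutatorElement

set_option linter.style.show false
set_option linter.style.haveILetI false

variable {F : Type*} [Field F]

local notation "Mat" => Matrix (Fin 3) (Fin 3) F
local notation "Vec" => (Fin 3 → F)
local notation "GL3" => GL (Fin 3) F

/-- no eigenvector over the field -/
def NoEig (a : Mat) : Prop := ∀ v : Vec, v ≠ 0 → ∀ c : F, a *ᵥ v ≠ c • v

theorem NoEig.irreducible {a : Mat} (h : NoEig a) : Irreducible a.charpoly := by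
  have h3 : a.charpoly.natDegree = 3 := by rw [Matrix.charpoly_natDegree_eq_dim, Fintype.card_fin]
  rw [Polynomial.irreducible_iff_roots_eq_zero_of_degree_le_three (by omega) (by omega),
    Multiset.eq_zero_iff_forall_notMem]
  intro t ht
  have hdet := (Polynomial.mem_roots'.1 ht).2
  rw [Polynomial.IsRoot.def, Matrix.eval_charpoly] at hdet
  obtain ⟨v, hv, e⟩ := Matrix.exists_mulVec_eq_zero_iff.2 hdet
  refine h v hv t ?_
  rw [Matrix.sub_mulVec, sub_eq_zero] at e
  rw [← e, Matrix.scalar_apply]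
  ext i
  simp [Matrix.mulVec_diagonal]

theorem NoEig.inj {a : Mat} (h : NoEig a) {p : F[X]} (hp : p ≠ 0) (hd : p.natDegree < 3) {v : Vec}
    (hv : (aeval a p) *ᵥ v = 0) : v = 0 := by
  have h3 : a.charpoly.natDegree = 3 := by rw [Matrix.charpoly_natDegree_eq_dim, Fintype.card_fin]
  obtain ⟨u, w, e⟩ := h.irreducible.coprime_iff_not_dvd.2 fun hdvd => by
    have := Polynomial.natDegree_le_of_dvd hdvd hp
    omega
  have he := congrArg (aeval a) e
  rw [map_add, map_mul, map_mul, Matrix.aeval_self_charpoly, mul_zero, zero_add, map_one] at he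
  rw [← Matrix.one_mulVec v, ← he, ← Matrix.mulVec_mulVec, hv, Matrix.mulVec_zero]

theorem quad_aeval (a : Mat) (α β γ : F) :
    aeval a (C α + C β * X + C γ * X ^ 2) = α • 1 + β • a + γ • a ^ 2 := by
  simp [Algebra.algebraMap_eq_smul_one, smul_mul_assoc]

theorem quad_mulVec (a : Mat) (α β γ : F) (v : Vec) :
    (α • (1 : Mat) + β • a + γ • a ^ 2) *ᵥ v = α • v + β • (a *ᵥ v) + γ • (a *ᵥ a *ᵥ v) := by
  simp only [Matrix.add_mulVec, Matrix.smul_mulVec, Matrix.one_mulVec, sq, ← Matrix.mulVec_mulVec]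

theorem NoEig.indep {a : Mat} (h : NoEig a) {v : Vec} (hv : v ≠ 0) {α β γ : F}
    (e : α • v + β • (a *ᵥ v) + γ • (a *ᵥ a *ᵥ v) = 0) : α = 0 ∧ β = 0 ∧ γ = 0 := by
  by_contra hne
  have hp : C α + C β * X + C γ * X ^ 2 ≠ 0 := fun h0 => hne ⟨
    by simpa using congrArg (Polynomial.coeff · 0) h0, by simpa using congrArg (Polynomial.coeff · 1) h0,
    by simpa using congrArg (Polynomial.coeff · 2) h0⟩
  refine hv (h.inj hp ?_ (v := v) ?_)
  · exact lt_of_le_of_lt (by compute_degree : (C α + C β * X + C γ * X ^ 2).natDegree ≤ 2) (by norm_num)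
  · rw [quad_aeval, quad_mulVec, e]

theorem NoEig.span {a : Mat} (h : NoEig a) {v : Vec} (hv : v ≠ 0) (w : Vec) :
    ∃ α β γ : F, α • v + β • (a *ᵥ v) + γ • (a *ᵥ a *ᵥ v) = w := by
  have hli : LinearIndependent F ![v, a *ᵥ v, a *ᵥ a *ᵥ v] := by
    rw [Fintype.linearIndependent_iff]
    intro g hg
    rw [Fin.sum_univ_three] at hg
    obtain ⟨h0, h1, h2⟩ := h.indep hv hg
    intro i; fin_cases i <;> assumption
  have htop := hli.span_eq_top_of_card_eq_finrank (by simp)
  obtain ⟨g, hg⟩ := (Submodule.mem_span_range_iff_exists_fun F).1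
    (htop ▸ Submodule.mem_top : w ∈ Submodule.span F (Set.range ![v, a *ᵥ v, a *ᵥ a *ᵥ v]))
  exact ⟨g 0, g 1, g 2, by rw [Fin.sum_univ_three] at hg; exact hg⟩

theorem NoEig.commutant {a : Mat} (h : NoEig a) {y : Mat} (hy : y * a = a * y) :
    ∃ α β γ : F, y = α • 1 + β • a + γ • a ^ 2 := by
  have hv : (Pi.single 0 1 : Vec) ≠ 0 := by simp
  obtain ⟨α, β, γ, e⟩ := h.span hv (y *ᵥ Pi.single 0 1)
  refine ⟨α, β, γ, ?_⟩
  set P : Mat := α • 1 + β • a + γ • a ^ 2 with hP
  have hPa : P * a = a * P := by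
    simp only [hP, add_mul, mul_add, smul_mul_assoc, mul_smul_comm, one_mul, mul_one, sq, mul_assoc]
  have h0 : y *ᵥ Pi.single 0 1 = P *ᵥ Pi.single 0 1 := by rw [hP, quad_mulVec, e]
  have h1 : ∀ x, y *ᵥ x = P *ᵥ x → y *ᵥ (a *ᵥ x) = P *ᵥ (a *ᵥ x) := fun x hx => by
    rw [Matrix.mulVec_mulVec, hy, Matrix.mulVec_mulVec, hPa, ← Matrix.mulVec_mulVec, hx,
      ← Matrix.mulVec_mulVec]
  refine Matrix.ext_of_mulVec_single fun i => ?_
  obtain ⟨r, s, t, ew⟩ := h.span hv (Pi.single i 1)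
  rw [← ew, Matrix.mulVec_add, Matrix.mulVec_add, Matrix.mulVec_add, Matrix.mulVec_add, Matrix.mulVec_smul,
    Matrix.mulVec_smul, Matrix.mulVec_smul, Matrix.mulVec_smul, Matrix.mulVec_smul, Matrix.mulVec_smul, h0,
    h1 _ h0, h1 _ (h1 _ h0)]

theorem NoEig.comm {a : Mat} (h : NoEig a) {x y : Mat} (hx : x * a = a * x) (hy : y * a = a * y) :
    x * y = y * x := by
  obtain ⟨α, β, γ, rfl⟩ := h.commutant hy
  simp only [mul_add, add_mul, smul_mul_assoc, mul_smul_comm, mul_one, one_mul, sq, ← mul_assoc, hx]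
  simp only [mul_assoc, hx]

theorem NoEig.eq_zero {a : Mat} (h : NoEig a) {x : Mat} (hx : x * a = a * x) {v : Vec} (hv : v ≠ 0)
    (e : x *ᵥ v = 0) : x = 0 := by
  obtain ⟨α, β, γ, rfl⟩ := h.commutant hx
  rw [quad_mulVec] at e
  obtain ⟨rfl, rfl, rfl⟩ := h.indep hv e
  simp

/-- a matrix with a conjugate root of its characteristic polynomial: at most three commute with it -/
theorem NoEig.roots_le_three {a : Mat} (h : NoEig a) (s : Finset Mat)
    (hs : ∀ b ∈ s, b * a = a * b ∧ aeval b a.charpoly = 0) : s.card ≤ 3 := by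
  classical
  let L : Subalgebra F Mat := Subalgebra.centralizer F {a}
  have hL : ∀ x : L, (x : Mat) * a = a * x := fun x => ((Subalgebra.mem_centralizer_iff F).1 x.2 a rfl).symm
  letI : CommRing L :=
    { (inferInstance : Ring L) with mul_comm := fun x y => Subtype.ext (h.comm (hL x) (hL y)) }
  haveI : NoZeroDivisors L := ⟨fun {x y} e => by
    have e' : (x : Mat) * (y : Mat) = 0 := congrArg Subtype.val e
    by_contra hne
    push Not at hne
    have hy : (y : Mat) ≠ 0 := fun e => hne.2 (Subtype.ext e)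
    obtain ⟨v, hv⟩ : ∃ v, (y : Mat) *ᵥ v ≠ 0 := by
      by_contra hall
      push Not at hall
      exact hy (Matrix.ext_of_mulVec_single fun i => by rw [hall, Matrix.zero_mulVec])
    exact hne.1 (Subtype.ext (h.eq_zero (hL x) hv (by rw [Matrix.mulVec_mulVec, e', Matrix.zero_mulVec])))⟩
  haveI : Nontrivial L := ⟨⟨0, 1, fun e => zero_ne_one (α := Mat) (congrArg Subtype.val e)⟩⟩
  haveI : IsDomain L := NoZeroDivisors.to_isDomain _
  let P : L[X] := a.charpoly.map (algebraMap F L)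
  have hP : P.Monic := (Matrix.charpoly_monic a).map _
  let t : Finset L := s.attach.image fun b => ⟨b.1, (Subalgebra.mem_centralizer_iff F).2 fun g hg => by
    rw [Set.mem_singleton_iff.1 hg]; exact (hs b.1 b.2).1.symm⟩
  have ht : s.card = t.card := by
    rw [Finset.card_image_of_injective, Finset.card_attach]
    intro x y e
    exact Subtype.ext (Subtype.mk.inj e)
  have hsub : t ⊆ P.roots.toFinset := by
    intro x hx
    obtain ⟨b, -, rfl⟩ := Finset.mem_image.1 hx
    rw [Multiset.mem_toFinset, Polynomial.mem_roots hP.ne_zero, Polynomial.IsRoot.def,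
      Polynomial.eval_map]
    apply Subtype.ext
    have := (Polynomial.hom_eval₂ a.charpoly (algebraMap F L) L.val.toRingHom
      (⟨b.1, (Subalgebra.mem_centralizer_iff F).2 fun g hg => by
        rw [Set.mem_singleton_iff.1 hg]; exact (hs b.1 b.2).1.symm⟩ : L))
    refine this.trans ?_
    have hb := (hs b.1 b.2).2
    rw [Polynomial.aeval_def] at hb
    exact hb
  calc s.card = t.card := ht
    _ ≤ P.roots.toFinset.card := Finset.card_le_card hsub
    _ ≤ P.natDegree := (Multiset.toFinset_card_le _).trans (Polynomial.card_roots' _)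
    _ = 3 := by rw [Polynomial.natDegree_map_eq_of_injective (algebraMap F L).injective,
        Matrix.charpoly_natDegree_eq_dim, Fintype.card_fin]

/-- a line invariant under everything commuting with a singular non-zero matrix -/
theorem exists_common {N : Mat} (hN : N ≠ 0) {w : Vec} (hw : w ≠ 0) (h : N *ᵥ w = 0) :
    ∃ v : Vec, v ≠ 0 ∧ ∀ x : Mat, x * N = N * x → ∃ c : F, x *ᵥ v = c • v := by
  have key : ∀ W : Submodule F Vec, Module.finrank F W = 1 →
      (∀ x : Mat, x * N = N * x → ∀ v ∈ W, x *ᵥ v ∈ W) →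
      ∃ v : Vec, v ≠ 0 ∧ ∀ x : Mat, x * N = N * x → ∃ c : F, x *ᵥ v = c • v := by
    intro W h1 hinv
    obtain ⟨⟨v, hvW⟩, hv0, hv⟩ := finrank_eq_one_iff'.1 h1
    refine ⟨v, fun e => hv0 (Subtype.ext e), fun x hx => ?_⟩
    obtain ⟨c, hc⟩ := hv ⟨_, hinv x hx v hvW⟩
    exact ⟨c, (congrArg Subtype.val hc).symm⟩
  let f := Matrix.mulVecLin N
  have hsum := LinearMap.finrank_range_add_finrank_ker f
  rw [Module.finrank_fintype_fun_eq_card, Fintype.card_fin] at hsum
  have hk : 1 ≤ Module.finrank F (LinearMap.ker f) := Submodule.one_le_finrank_iff.2 fun e =>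
    hw (by simpa [e] using (LinearMap.mem_ker.2 h : w ∈ LinearMap.ker f))
  have hr : 1 ≤ Module.finrank F (LinearMap.range f) := Submodule.one_le_finrank_iff.2 fun e => hN (by
    refine Matrix.ext_of_mulVec_single fun i => ?_
    have : N *ᵥ Pi.single i 1 ∈ LinearMap.range f := ⟨_, rfl⟩
    rw [e, Submodule.mem_bot] at this
    rw [this, Matrix.zero_mulVec])
  by_cases h1 : Module.finrank F (LinearMap.range f) = 1
  · refine key _ h1 fun x hx v hv => ?_
    obtain ⟨z, rfl⟩ := hv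
    exact ⟨x *ᵥ z, by simp [f, Matrix.mulVec_mulVec, hx]⟩
  · refine key (LinearMap.ker f) (by omega) fun x hx v hv => ?_
    rw [LinearMap.mem_ker, Matrix.mulVecLin_apply] at hv ⊢
    rw [Matrix.mulVec_mulVec, ← hx, ← Matrix.mulVec_mulVec, hv, Matrix.mulVec_zero]

theorem exists_common_of_eig {a : Mat} (ha : ∀ c : F, a ≠ c • 1) (h : ¬ NoEig a) :
    ∃ v : Vec, v ≠ 0 ∧ ∀ x : Mat, x * a = a * x → ∃ c : F, x *ᵥ v = c • v := by
  unfold NoEig at h
  push Not at h
  obtain ⟨w, hw, t, e⟩ := h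
  obtain ⟨v, hv, hx⟩ := exists_common (N := a - t • 1) (sub_ne_zero.2 (ha t)) hw
    (by rw [Matrix.sub_mulVec, Matrix.smul_mulVec, Matrix.one_mulVec, e, sub_self])
  exact ⟨v, hv, fun x hx' => hx x (by rw [mul_sub, sub_mul, mul_smul_comm, smul_mul_assoc, mul_one, one_mul, hx'])⟩

/-- what commutes with two matrices that commute only up to a factor is scalar -/
theorem eq_scalar_of_comm {a b y : Mat} {ω : F} (hω : ω ≠ 1) (hab : a * b = ω • (b * a))
    (hbu : IsUnit b) (hau : IsUnit a) (hya : y * a = a * y) (hyb : y * b = b * y) : ∃ c : F, y = c • 1 := by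
  by_contra hne
  push Not at hne
  have hne' : b * a ≠ 0 := (hbu.mul hau).ne_zero
  by_cases h : NoEig y
  · have e := h.comm hya.symm hyb.symm
    rw [hab] at e
    exact hω (smul_left_injective F hne' (by simpa using e))
  · obtain ⟨v, hv, hx⟩ := exists_common_of_eig hne h
    obtain ⟨s, hs⟩ := hx a hya.symm
    obtain ⟨t, ht⟩ := hx b hyb.symm
    have e := congrArg (· *ᵥ v) hab
    simp only [Matrix.smul_mulVec, ← Matrix.mulVec_mulVec, hs, ht, Matrix.mulVec_smul, smul_smul] at e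
    have hst : s * t ≠ 0 := by
      intro h0
      have : (b * a) *ᵥ v = 0 := by
        rw [← Matrix.mulVec_mulVec, hs, Matrix.mulVec_smul, ht, smul_smul, h0, zero_smul]
      exact hv (Matrix.mulVec_injective_iff_isUnit.2 (hbu.mul hau) (by rw [this, Matrix.mulVec_zero]))
    refine hω (mul_right_cancel₀ hst ?_)
    have := smul_left_injective F hv e
    rw [one_mul]; linear_combination -this

variable {K : Subalgebra F (Matrix (Fin 3) (Fin 3) F)}

theorem noEig (hK : Cfsg.Geo.IsFieldSubalgebra 3 K) {k : Mat} (hk : k ∈ K) (hne : ∀ c : F, k ≠ c • 1) : NoEig k :=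
  fun _ hv c e => hne c (Singer.eq_scalar hK hk hv e)

theorem mem_of_comm (hK : Cfsg.Geo.IsFieldSubalgebra 3 K) {k : Mat} (hk : k ∈ K) (hne : ∀ c : F, k ≠ c • 1)
    {y : Mat} (hy : y * k = k * y) : y ∈ K := by
  obtain ⟨α, β, γ, rfl⟩ := (noEig hK hk hne).commutant hy
  exact K.add_mem (K.add_mem (K.smul_mem K.one_mem α) (K.smul_mem hk β)) (K.smul_mem (K.pow_mem hk 2) γ)

theorem mem_normalizer (hK : Cfsg.Geo.IsFieldSubalgebra 3 K) {g : GL3} {a : Mat} (ha : a ∈ K)
    (hne : ∀ c : F, a ≠ c • 1) (hga : (g : Mat) * a * ((g⁻¹ : GL3) : Mat) ∈ K) :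
    g ∈ Cfsg.Geo.subalgebraNormalizer K := by
  have key : ∀ {g : GL3} {a : Mat}, a ∈ K → (∀ c : F, a ≠ c • 1) →
      (g : Mat) * a * ((g⁻¹ : GL3) : Mat) ∈ K → ∀ k ∈ K, (g : Mat) * k * ((g⁻¹ : GL3) : Mat) ∈ K := by
    intro g a ha hne hga k hk
    refine mem_of_comm hK hga (fun c e => hne c ?_) ?_
    · calc a = ((g⁻¹ : GL3) : Mat) * ((g : Mat) * a * ((g⁻¹ : GL3) : Mat)) * (g : Mat) := by
            simp [mul_assoc]
        _ = c • 1 := by rw [e]; simp
    · simp only [mul_assoc, Units.inv_mul_cancel_left]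
      rw [← mul_assoc k a, ← hK.comm a ha k hk, mul_assoc]
  intro k
  refine ⟨key ha hne hga k, fun h => ?_⟩
  have := key (g := g⁻¹) hga (fun c e => hne c ?_) (by simp [mul_assoc, ha]) _ h
  · simpa [mul_assoc] using this
  · calc a = ((g⁻¹ : GL3) : Mat) * ((g : Mat) * a * ((g⁻¹ : GL3) : Mat)) * (g : Mat) := by simp [mul_assoc]
      _ = c • 1 := by rw [e]; simp

theorem pow_conj {c : GL3} (i : ℕ) {A : Subgroup GL3} (hA : ∀ x ∈ A, c * x * c⁻¹ ∈ A) {x : GL3} (hx : x ∈ A) :
    c ^ i * x * (c ^ i)⁻¹ ∈ A := by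
  induction i with
  | zero => simpa using hx
  | succ i ih => convert hA _ ih using 1; rw [pow_succ']; group

set_option maxHeartbeats 800000 in
/-- an abelian subgroup normalised by a good element of the field lies in the field -/
theorem abelian_le (hK : Cfsg.Geo.IsFieldSubalgebra 3 K) {c : GL3} (hc : (c : Mat) ∈ K)
    (hgood : ∀ d, 1 ≤ d → d ≤ 3 → ∀ z : F, ((c ^ d : GL3) : Mat) ≠ z • 1) {A : Subgroup GL3}
    (habel : ∀ x ∈ A, ∀ y ∈ A, x * y = y * x) (hconj : ∀ x ∈ A, c * x * c⁻¹ ∈ A)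
    (hconj' : ∀ x ∈ A, c⁻¹ * x * c ∈ A) {a : GL3} (ha : a ∈ A) : (a : Mat) ∈ K := by
  classical
  by_contra haK
  have hans : ∀ z : F, (a : Mat) ≠ z • 1 := fun z e => haK (by rw [e]; exact K.smul_mem K.one_mem z)
  have hcomm : ∀ x ∈ A, ∀ y ∈ A, (x : Mat) * y = y * x := fun x hx y hy => by
    rw [← Units.val_mul, habel x hx y hy, Units.val_mul]
  have hc1 : ∀ z : F, (c : Mat) ≠ z • 1 := by simpa using hgood 1 le_rfl (by norm_num)
  by_cases h : NoEig (a : Mat)
  · let f : ℕ → Mat := fun i => ((c ^ i * a * (c ^ i)⁻¹ : GL3) : Mat)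
    have hroot : ∀ i : ℕ, f i * a = a * f i ∧ aeval (f i) (a : Mat).charpoly = 0 := fun i => by
      refine ⟨hcomm _ (pow_conj i hconj ha) _ ha, ?_⟩
      have he := Matrix.aeval_self_charpoly (((c ^ i : GL3) : Mat) * (a : Mat) * (((c ^ i)⁻¹ : GL3) : Mat))
      rw [Matrix.coe_units_inv, Matrix.charpoly_units_conj (c ^ i) (a : Mat), ← Matrix.coe_units_inv] at he
      have hf : f i = ((c ^ i : GL3) : Mat) * (a : Mat) * (((c ^ i)⁻¹ : GL3) : Mat) := by
        simp only [f, Units.val_mul]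
      rw [hf]; exact he
    have hle := h.roots_le_three ((Finset.range 4).image f) fun b hb => by
      obtain ⟨i, -, e⟩ := Finset.mem_image.1 hb
      rw [← e]; exact hroot i
    obtain ⟨i, hi, j, hj, hij, e⟩ := Finset.exists_ne_map_eq_of_card_lt_of_maps_to
      (s := Finset.range 4) (by rw [Finset.card_range]; omega) (fun x hx => Finset.mem_image_of_mem f hx)
    wlog hlt : i < j generalizing i j
    · exact this j hj i hi (Ne.symm hij) e.symm (by omega)
    obtain ⟨d, rfl⟩ := Nat.exists_eq_add_of_lt hlt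
    have e' : c ^ i * a * (c ^ i)⁻¹ = c ^ (i + d + 1) * a * (c ^ (i + d + 1))⁻¹ := Units.ext e
    have hd : c ^ (d + 1) * a = a * c ^ (d + 1) := by
      rw [add_assoc, pow_add] at e'
      have : a = c ^ (d + 1) * a * (c ^ (d + 1))⁻¹ := by
        calc a = (c ^ i)⁻¹ * (c ^ i * a * (c ^ i)⁻¹) * c ^ i := by group
          _ = c ^ (d + 1) * a * (c ^ (d + 1))⁻¹ := by rw [e']; group
      conv_rhs => rw [this]
      group
    rw [Finset.mem_range] at hj
    refine haK (mem_of_comm hK (k := ((c ^ (d + 1) : GL3) : Mat)) ?_ (hgood _ (by omega) (by omega)) ?_)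
    · rw [Units.val_pow_eq_pow_val]; exact K.pow_mem hc _
    · rw [← Units.val_mul, ← hd, Units.val_mul]
  obtain ⟨v, hv, hline⟩ := exists_common_of_eig hans h
  have hline' : ∀ x : A, ∃ z : F, ((x : GL3) : Mat) *ᵥ v = z • v := fun x => hline _ (hcomm _ x.2 _ ha)
  choose e he using hline'
  let τ : A → A := fun x => ⟨c⁻¹ * x * c, hconj' _ x.2⟩
  have hτ : ∀ (x : A) (w : Vec) (z : F), ((τ x : GL3) : Mat) *ᵥ w = z • w →
      ((x : GL3) : Mat) *ᵥ ((c : Mat) *ᵥ w) = z • ((c : Mat) *ᵥ w) := fun x w z hw => by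
    rw [← Matrix.mulVec_smul, ← hw, Matrix.mulVec_mulVec, Matrix.mulVec_mulVec]
    simp [τ, ← mul_assoc]
  have h1 := fun x => hτ x v _ (he (τ x))
  have h2 := fun x => hτ x _ _ (h1 (τ x))
  have h3 := fun x => hτ x _ _ (h2 (τ x))
  have hN := noEig hK hc hc1
  obtain ⟨α, β, γ, e3⟩ := hN.span hv ((c : Mat) *ᵥ (c : Mat) *ᵥ (c : Mat) *ᵥ v)
  have hα : α ≠ 0 := by
    rintro rfl
    have : (c : Mat) *ᵥ (β • v + γ • ((c : Mat) *ᵥ v) - (c : Mat) *ᵥ (c : Mat) *ᵥ v) = 0 := by
      rw [Matrix.mulVec_sub, Matrix.mulVec_add, Matrix.mulVec_smul, Matrix.mulVec_smul, ← e3, zero_smul, zero_add,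
        sub_self]
    have h0 := Matrix.mulVec_injective_iff_isUnit.2 c.isUnit (this.trans (Matrix.mulVec_zero _).symm)
    have := (hN.indep hv (α := β) (β := γ) (γ := -1) (by rw [neg_one_smul, ← sub_eq_add_neg]; exact h0)).2.2
    exact one_ne_zero (neg_eq_zero.1 this)
  have hbg : β ≠ 0 ∨ γ ≠ 0 := by
    by_contra h0
    push Not at h0
    rw [h0.1, h0.2, zero_smul, zero_smul, add_zero, add_zero] at e3
    refine hgood 3 (by norm_num) le_rfl α (Singer.eq_scalar hK ?_ hv ?_)
    · rw [Units.val_pow_eq_pow_val]; exact K.pow_mem hc _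
    · simp only [pow_succ, pow_zero, one_mul, Units.val_mul, ← Matrix.mulVec_mulVec, e3]
  have hrel : ∀ x : A, α * (e x - e (τ (τ (τ x)))) = 0 ∧ β * (e (τ x) - e (τ (τ (τ x)))) = 0 ∧
      γ * (e (τ (τ x)) - e (τ (τ (τ x)))) = 0 := fun x => by
    have := h3 x
    rw [← e3, Matrix.mulVec_add, Matrix.mulVec_add, Matrix.mulVec_smul, Matrix.mulVec_smul, Matrix.mulVec_smul,
      he x, h1 x, h2 x, smul_add, smul_add, ← sub_eq_zero] at this
    refine hN.indep hv (Eq.trans ?_ this)
    module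
  have hA : ∀ x, e (τ (τ (τ x))) = e x := fun x =>
    (sub_eq_zero.1 ((mul_eq_zero.1 (hrel x).1).resolve_left hα)).symm
  have hB : ∀ x, e (τ x) = e x := by
    rcases hbg with hb | hg
    · exact fun x => by
        have := sub_eq_zero.1 ((mul_eq_zero.1 (hrel x).2.1).resolve_left hb); rw [this, hA]
    · have hg' : ∀ x, e (τ (τ x)) = e x := fun x => by
        have := sub_eq_zero.1 ((mul_eq_zero.1 (hrel x).2.2).resolve_left hg); rw [this, hA]
      exact fun x => by rw [← hg' (τ x), hA]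
  refine hans (e ⟨a, ha⟩) (Matrix.ext_of_mulVec_single fun i => ?_)
  obtain ⟨r, s, t, ew⟩ := hN.span hv (Pi.single i 1)
  have q0 : (a : Mat) *ᵥ v = e ⟨a, ha⟩ • v := he ⟨a, ha⟩
  have q1 := h1 ⟨a, ha⟩
  have q2 := h2 ⟨a, ha⟩
  rw [hB] at q1
  rw [hB, hB] at q2
  rw [← ew, Matrix.smul_mulVec, Matrix.one_mulVec]
  simp only [Matrix.mulVec_add, Matrix.mulVec_smul] at q0 q1 q2 ⊢
  rw [q0, q1, q2]
  module

theorem exists_gen [Fintype F] (hK : Cfsg.Geo.IsFieldSubalgebra 3 K) :
    ∃ c : GL3, (c : Mat) ∈ K ∧ (c : Mat).det = 1 ∧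
      ∀ (j : ℕ) (z : F), ((c ^ j : GL3) : Mat) = z • 1 →
        Fintype.card F ^ 2 + Fintype.card F + 1 ∣ 3 * j := by
  classical
  letI : CommRing K :=
    { (inferInstance : Ring K) with mul_comm := fun x y => Subtype.ext (hK.comm x x.2 y y.2) }
  haveI : Nontrivial K := ⟨⟨0, 1, fun e => zero_ne_one (α := Mat) (congrArg Subtype.val e)⟩⟩
  haveI : NoZeroDivisors K := ⟨fun {x y} e => or_iff_not_imp_left.2 fun hx => by
    obtain ⟨w, -, hw⟩ := hK.inv x x.2 fun h => hx (Subtype.ext h)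
    have e' : (x : Mat) * y = 0 := congrArg Subtype.val e
    exact Subtype.ext (by rw [← one_mul (y : Mat), ← mul_eq_one_comm.1 hw, mul_assoc, e', mul_zero]; rfl)⟩
  haveI : IsDomain K := NoZeroDivisors.to_isDomain _
  haveI : Finite K := Subtype.finite
  haveI : Fintype K := Fintype.ofFinite _
  obtain ⟨g, hg⟩ := IsCyclic.exists_generator (α := Kˣ)
  have hq := Fintype.one_lt_card (α := F)
  have hord : orderOf g = Fintype.card F ^ 3 - 1 := by
    rw [orderOf_eq_card_of_forall_mem_zpowers hg]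
    letI : Field K := Fintype.fieldOfDomain K
    rw [Nat.card_units, Nat.card_eq_fintype_card (α := K)]
    have := Module.card_eq_pow_finrank (K := F) (V := K)
    rw [hK.finrank_eq] at this
    rw [this]
  let φ : Kˣ →* GL3 := Units.map (K.val : K →* Mat)
  have hφ : Function.Injective φ := Units.map_injective Subtype.val_injective
  let c := φ (g ^ (Fintype.card F - 1))
  refine ⟨c, (g ^ (Fintype.card F - 1) : Kˣ).1.2, ?_, fun j z hz => ?_⟩
  · have h0 : ((φ g : GL3) : Mat).det ≠ 0 := (Matrix.isUnit_iff_isUnit_det _).1 (φ g).isUnit |>.ne_zero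
    simp only [c, map_pow, Units.val_pow_eq_pow_val, Matrix.det_pow]
    exact FiniteField.pow_card_sub_one_eq_one _ h0
  have h0 : ((φ g : GL3) : Mat).det ≠ 0 := (Matrix.isUnit_iff_isUnit_det _).1 (φ g).isUnit |>.ne_zero
  have hz3 : z ^ 3 = 1 := by
    have := congrArg Matrix.det hz
    simp only [c, map_pow, Units.val_pow_eq_pow_val, Matrix.det_pow, Matrix.det_smul, Matrix.det_one, mul_one,
      Fintype.card_fin, FiniteField.pow_card_sub_one_eq_one _ h0, one_pow] at this
    exact this.symm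
  have h1 : g ^ ((Fintype.card F - 1) * (3 * j)) = 1 := by
    refine hφ (Units.ext ?_)
    rw [mul_comm 3 j, pow_mul, pow_mul, map_pow φ ((g ^ _) ^ j) 3, map_pow φ (g ^ _) j,
      Units.val_pow_eq_pow_val, hz, _root_.smul_pow, one_pow, hz3, one_smul, map_one, Units.val_one]
  have h2 := orderOf_dvd_of_pow_eq_one h1
  rw [hord] at h2
  have hfac : Fintype.card F ^ 3 - 1 = (Fintype.card F - 1) * (Fintype.card F ^ 2 + Fintype.card F + 1) := by
    obtain ⟨m, hm⟩ : ∃ m, Fintype.card F = m + 1 := ⟨Fintype.card F - 1, by omega⟩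
    rw [hm, Nat.add_sub_cancel]
    refine Nat.sub_eq_of_eq_add ?_
    ring
  rw [hfac] at h2
  exact Nat.dvd_of_mul_dvd_mul_left (by omega) h2

set_option maxHeartbeats 1600000 in
/-- a solvable non-scalar subgroup normalised by a group forces the group into the normaliser of the field -/
theorem le_normalizer_of_solvable [Fintype F] (hK : Cfsg.Geo.IsFieldSubalgebra 3 K) {c : GL3}
    {M E : Subgroup GL3} (hMS : M ≤ Cfsg.Geo.specialLinear (Fin 3) F) (hcM : c ∈ M) (hcK : (c : Mat) ∈ K)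
    (hEM : E ≤ M) (hEn : ∀ g ∈ M, ∀ x ∈ E, g * x * g⁻¹ ∈ E) (hsol : Group.IsSolvable E)
    (hns : ¬ E ≤ Cfsg.Geo.scalars (Fin 3) F)
    (hgood : ∀ d, 1 ≤ d → d ≤ 3 → ∀ z : F, ((c ^ d : GL3) : Mat) ≠ z • 1)
    (hgood9 : Fintype.card F % 3 = 1 → ∀ d, 1 ≤ d → d ≤ 9 → ∀ z : F, ((c ^ (3 * d) : GL3) : Mat) ≠ z • 1) :
    M ≤ Cfsg.Geo.subalgebraNormalizer K := by
  classical
  let D : ℕ → Subgroup GL3 := fun i => (derivedSeries E i).map E.subtype
  obtain ⟨n, hn⟩ := hsol.solvable
  have hDn : D n ≤ Cfsg.Geo.scalars (Fin 3) F := by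
    simp only [D, hn, Subgroup.map_bot]; exact bot_le
  have hD0 : ¬ D 0 ≤ Cfsg.Geo.scalars (Fin 3) F := fun h => hns fun x hx => h ⟨⟨x, hx⟩, trivial, rfl⟩
  obtain ⟨i, hEns, hsucc⟩ : ∃ i, ¬ D i ≤ Cfsg.Geo.scalars (Fin 3) F ∧ D (i + 1) ≤ Cfsg.Geo.scalars (Fin 3) F := by
    by_contra hne
    push Not at hne
    exact (Nat.rec (motive := fun k => ¬ D k ≤ Cfsg.Geo.scalars (Fin 3) F) hD0 (fun k ih => hne k ih) n) hDn
  have hnorm : ∀ x ∈ D i, ∀ g ∈ M, g * x * g⁻¹ ∈ D i := by
    have key : ∀ (k : ℕ) (g : GL3), g ∈ M → (D k).map (MulAut.conj g).toMonoidHom ≤ D k := by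
      intro k g hg
      induction k with
      | zero =>
        rintro _ ⟨_, ⟨y, -, rfl⟩, rfl⟩
        exact ⟨⟨g * y * g⁻¹, hEn g hg y y.2⟩, trivial, rfl⟩
      | succ k ih =>
        simp only [D, derivedSeries_succ, Subgroup.map_commutator] at ih ⊢
        exact Subgroup.commutator_mono ih ih
    exact fun x hx g hg => key i g hg ⟨x, hx, rfl⟩
  have hcomm : ∀ x ∈ D i, ∀ y ∈ D i, ∃ μ : F, (x : Mat) * y = μ • ((y : Mat) * x) := by
    rintro _ ⟨x, hx, rfl⟩ _ ⟨y, hy, rfl⟩
    obtain ⟨μ, hμ⟩ := (Cfsg.Geo.mem_scalars_iff _).1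
      (hsucc ⟨⁅x, y⁆, Subgroup.commutator_mem_commutator hx hy, rfl⟩)
    refine ⟨μ, ?_⟩
    have : ((x * y : E) : GL3) = ((⁅x, y⁆ : E) : GL3) * ((y * x : E) : GL3) := by
      rw [← Subgroup.coe_mul]; congr 1; rw [commutatorElement_def]; group
    have := congrArg Units.val this
    simp only [Subgroup.coe_subtype, Subgroup.coe_mul, Units.val_mul] at this hμ ⊢
    rw [this, hμ, smul_mul_assoc, one_mul]
  have hdet : ∀ x ∈ D i, (x : Mat).det = 1 := by
    rintro _ ⟨y, -, rfl⟩
    have := MonoidHom.mem_ker.1 (hMS (hEM y.2))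
    simpa using congrArg Units.val this
  by_cases hab : ∀ x ∈ D i, ∀ y ∈ D i, x * y = y * x
  · obtain ⟨a, haD, haS⟩ := SetLike.not_le_iff_exists.1 hEns
    have hle := fun {x} hx => abelian_le hK hcK hgood hab (fun x hx => hnorm x hx c hcM)
      (fun x hx => by simpa using hnorm x hx c⁻¹ (inv_mem hcM)) (a := x) hx
    intro g hg
    refine mem_normalizer hK (hle haD) (fun z e => haS ((Cfsg.Geo.mem_scalars_iff _).2 ?_)) ?_
    · refine ⟨Units.mk0 z ?_, e⟩
      rintro rfl
      exact a.ne_zero (by rw [e, zero_smul])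
    · simpa [Units.val_mul] using hle (hnorm a haD g hg)
  exfalso
  push Not at hab
  obtain ⟨a, ha, b, hb, hne⟩ := hab
  obtain ⟨ω, hω⟩ := hcomm a ha b hb
  have hω1 : ω ≠ 1 := by
    rintro rfl
    rw [one_smul] at hω
    exact hne (Units.ext hω)
  have hcube : ∀ {x y : GL3}, x ∈ D i → y ∈ D i → ∀ μ : F, (x : Mat) * y = μ • ((y : Mat) * x) → μ ^ 3 = 1 :=
    fun {x y} hx hy μ e => by
      have := congrArg Matrix.det e
      rw [Matrix.det_mul, Matrix.det_smul, Matrix.det_mul, hdet x hx, hdet y hy, Fintype.card_fin, mul_one,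
        mul_one] at this
      exact this.symm
  have hω3 := hcube ha hb ω hω
  have hmod : Fintype.card F % 3 = 1 := by
    have hq := Fintype.one_lt_card (α := F)
    have hω0 : ω ≠ 0 := by rintro rfl; simp at hω3
    have h3 : orderOf ω = 3 := orderOf_eq_prime hω3 hω1
    have hdvd := orderOf_dvd_of_pow_eq_one (FiniteField.pow_card_sub_one_eq_one ω hω0)
    rw [h3] at hdvd
    omega
  let R := {x : F // x ^ 3 = 1}
  have hR : Nat.card R ≤ 3 := by
    have : Nat.card R ≤ Nat.card ↥(Polynomial.nthRootsFinset 3 (1 : F)) :=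
      Nat.card_le_card_of_injective (fun x => ⟨x.1, (Polynomial.mem_nthRootsFinset (by norm_num) _).2 x.2⟩)
        (fun x y e => Subtype.ext (congrArg Subtype.val e :))
    refine this.trans ?_
    rw [Nat.card_eq_fintype_card, Fintype.card_coe]
    rw [Polynomial.nthRootsFinset_def]
    exact (Multiset.toFinset_card_le _).trans (Polynomial.card_nthRoots 3 1)
  haveI : Finite R := Subtype.finite
  have main : ∀ x ∈ D i, (x : Mat) ∈ K := by
    intro x hx
    let xs : Fin 10 → GL3 := fun k => c ^ (k : ℕ) * x * (c ^ (k : ℕ))⁻¹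
    have hxs : ∀ k, xs k ∈ D i := fun k => hnorm x hx _ (pow_mem hcM _)
    choose μa hμa using fun k => hcomm (xs k) (hxs k) a ha
    choose μb hμb using fun k => hcomm (xs k) (hxs k) b hb
    let f : Fin 10 → R × R := fun k =>
      (⟨μa k, hcube (hxs k) ha _ (hμa k)⟩, ⟨μb k, hcube (hxs k) hb _ (hμb k)⟩)
    obtain ⟨k, l, hkl, efkl⟩ : ∃ k l, k ≠ l ∧ f k = f l := by
      by_contra hinj
      push Not at hinj
      have hle := Nat.card_le_card_of_injective f fun k l e => by
        by_contra hne; exact hinj k l hne e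
      rw [Nat.card_prod, Nat.card_eq_fintype_card, Fintype.card_fin] at hle
      nlinarith
    wlog hlt : (k : ℕ) < l generalizing k l
    · exact this l k (Ne.symm hkl) efkl.symm (by omega)
    have efa : μa k = μa l := congrArg (fun t : R × R => t.1.1) efkl
    have efb : μb k = μb l := congrArg (fun t : R × R => t.2.1) efkl
    have hxk : ∀ k, xs k = c ^ (k : ℕ) * x * (c ^ (k : ℕ))⁻¹ := fun k => rfl
    clear_value f xs
    set y := (xs k)⁻¹ * xs l with hy
    have hyc : ∀ {t : GL3} {μ ν : F}, (xs k : Mat) * t = μ • ((t : Mat) * xs k) →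
        (xs l : Mat) * t = ν • ((t : Mat) * xs l) → μ = ν → (y : Mat) * t = (t : Mat) * y := by
      intro t μ ν e1 e2 emn
      subst emn
      have hu := (xs k).isUnit
      apply hu.mul_left_cancel
      have ky : (xs k : Mat) * y = xs l := by rw [hy, Units.val_mul, Units.mul_inv_cancel_left]
      calc (xs k : Mat) * ((y : Mat) * t) = (xs l : Mat) * t := by rw [← mul_assoc, ky]
        _ = μ • ((t : Mat) * xs l) := e2
        _ = μ • ((t : Mat) * ((xs k : Mat) * y)) := by rw [ky]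
        _ = (xs k : Mat) * ((t : Mat) * y) := by rw [← mul_assoc (t : Mat), ← smul_mul_assoc, ← e1, mul_assoc]
    obtain ⟨μ, hμ⟩ := eq_scalar_of_comm hω1 hω b.isUnit a.isUnit (hyc (hμa k) (hμa l) efa)
      (hyc (hμb k) (hμb l) efb)
    obtain ⟨d, hd⟩ := Nat.exists_eq_add_of_lt hlt
    have hxd : ((c ^ (d + 1) * x * (c ^ (d + 1))⁻¹ : GL3) : Mat) = μ • (x : Mat) := by
      have e : c ^ (d + 1) * x * (c ^ (d + 1))⁻¹ = (c ^ (k : ℕ))⁻¹ * (xs k * y) * c ^ (k : ℕ) := by
        simp only [hy, hxk, hd, add_assoc, pow_add]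
        group
      rw [e, Units.val_mul, Units.val_mul, Units.val_mul, hμ, mul_smul_comm, mul_one, mul_smul_comm, smul_mul_assoc,
        ← Units.val_mul, ← Units.val_mul]
      congr 2
      simp only [hxk]
      group
    have hμ3 : μ ^ 3 = 1 := by
      have := congrArg Matrix.det hxd
      simp only [Units.val_mul, Matrix.det_units_conj, Matrix.det_smul, Fintype.card_fin, hdet x hx, mul_one] at this
      exact this.symm
    set s := c ^ (d + 1) with hs
    have e1 : (s : Mat) * x = μ • ((x : Mat) * s) := by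
      have := congrArg (· * (s : Mat)) hxd
      simpa [Units.val_mul, mul_assoc, smul_mul_assoc] using this
    have e3 : ((s ^ 3 : GL3) : Mat) * x = (x : Mat) * ((s ^ 3 : GL3) : Mat) := by
      simp only [pow_succ, pow_zero, one_mul, Units.val_mul, mul_assoc]
      rw [e1, mul_smul_comm, mul_smul_comm, ← mul_assoc (s : Mat) (x : Mat), e1, smul_mul_assoc, mul_smul_comm,
        smul_smul, mul_assoc (x : Mat), ← mul_assoc (s : Mat) (x : Mat), e1, smul_mul_assoc, smul_smul, mul_assoc,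
        show μ * (μ * μ) = 1 by rw [← hμ3]; ring, one_smul, mul_assoc]
    refine mem_of_comm hK (k := ((s ^ 3 : GL3) : Mat)) ?_ (fun z e => ?_) e3.symm
    · simp only [hs, Units.val_pow_eq_pow_val]; exact K.pow_mem (K.pow_mem hcK _) _
    · rw [hs, ← pow_mul, mul_comm (d + 1)] at e
      exact hgood9 hmod (d + 1) (by omega) (by have := l.isLt; omega) z e
  exact hne (Units.ext (hK.comm _ (main a ha) _ (main b hb)))

theorem le_normalizer [Fintype F] (hK : Cfsg.Geo.IsFieldSubalgebra 3 K) (hq4 : Fintype.card F ≠ 4)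
    {M : Subgroup GL3} (hMS : M ≤ Cfsg.Geo.specialLinear (Fin 3) F) (hM : CycIn K M)
    (hodd : Odd (Nat.card M)) : M ≤ Cfsg.Geo.subalgebraNormalizer K := by
  classical
  obtain ⟨c, hcK, hcdet, hcdvd⟩ := exists_gen hK
  have hq := Fintype.one_lt_card (α := F)
  have hgood : ∀ d, 1 ≤ d → d ≤ 3 → ∀ z : F, ((c ^ d : GL3) : Mat) ≠ z • 1 := fun d h1 h3 z e => by
    have := Nat.le_of_dvd (by omega) (hcdvd d z e)
    have hdiv := hcdvd d z e
    have : Fintype.card F ≤ 2 := by nlinarith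
    obtain h : Fintype.card F = 2 := by omega
    rw [h] at hdiv
    interval_cases d <;> norm_num at hdiv
  have hcM : c ∈ M := hM c hcK hcdet
  refine le_normalizer_of_solvable hK hMS hcM hcK le_rfl (fun g hg x hx => mul_mem (mul_mem hg hx) (inv_mem hg))
    (Cfsg.Agent.S0205.result hodd) (fun h => ?_) hgood fun hmod d h1 h9 z e => ?_
  · obtain ⟨z, hz⟩ := (Cfsg.Geo.mem_scalars_iff c).1 (h hcM)
    exact hgood 1 le_rfl (by norm_num) z (by rw [pow_one, hz])
  · have hd := hcdvd _ z e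
    have hle : Fintype.card F ≤ 8 := by
      have := Nat.le_of_dvd (by omega) hd
      nlinarith
    interval_cases hF : Fintype.card F <;> omega

end Cfsg.Agent.Forms.Max.SL3.Singer.Odd
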