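import Mathlib
import Cfsg.Agent.Lib.Forms.Max.SL3.Singer.Thin

/-!
# Normalisers of cubic fields in SL(3): reduction to the odd and to the two-axes case
-/

set_option autoImplicit false
set_option linter.unusedSectionVars false

namespace Cfsg.Agent.Forms.Max.SL3.Singer.Reduce

open Matrix Cfsg.Agent.Aschbacher

variable {F : Type*} [Field F] [Fintype F]
variable {K : Subalgebra F (Matrix (Fin 3) (Fin 3) F)}

local notation "Mat" => Matrix (Fin 3) (Fin 3) F
local notation "Vec" => (Fin 3 → F)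
local notation "GL3" => GL (Fin 3) F

theorem mem_normalizer_of_mem (hK : Cfsg.Geo.IsFieldSubalgebra 3 K) {g : GL3} (hg : (g : Mat) ∈ K) :
    g ∈ Cfsg.Geo.subalgebraNormalizer K := by
  obtain ⟨y, hy, e⟩ := hK.inv _ hg (Units.ne_zero g)
  have hi : ((g⁻¹ : GL3) : Mat) ∈ K := by rw [Units.inv_eq_of_mul_eq_one_right e]; exact hy
  intro k
  refine ⟨fun hk => K.mul_mem (K.mul_mem hg hk) hi, fun h => ?_⟩
  have := K.mul_mem (K.mul_mem hi h) hg
  simpa [mul_assoc] using this

theorem not_le (hK : Cfsg.Geo.IsFieldSubalgebra 3 K) :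
    ¬ Cfsg.Geo.specialLinear (Fin 3) F ≤ Cfsg.Geo.subalgebraNormalizer K ⊓ Cfsg.Geo.specialLinear (Fin 3) F := by
  intro hle
  obtain ⟨k, hk, hns⟩ : ∃ k ∈ K, ∀ c : F, k ≠ c • (1 : Mat) := by
    by_contra hc
    push Not at hc
    have h1 : Subalgebra.toSubmodule K ≤ Submodule.span F {(1 : Mat)} := fun x hx => by
      obtain ⟨c, rfl⟩ := hc x hx
      exact Submodule.smul_mem _ c (Submodule.mem_span_singleton_self _)
    have h2 := (Submodule.finrank_mono h1).trans (finrank_span_singleton (one_ne_zero (α := Mat))).le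
    rw [Subalgebra.finrank_toSubmodule, hK.finrank_eq] at h2
    omega
  set u : Vec := Pi.single 0 1 with hu
  set φ : Vec := Pi.single 1 1 with hφ
  have h0 : φ ⬝ᵥ u = 0 := by simp [hu, hφ]
  set t := trv u φ h0 with ht
  have htN := (hle (trv_mem_SL u φ h0)).1
  set d : Mat := (t : Mat) * k * ((t⁻¹ : GL3) : Mat) - k with hd
  have hdK : d ∈ K := K.sub_mem ((htN k).1 hk) hk
  obtain ⟨x, hx0, hx1, hx2⟩ : ∃ x : Vec, x ≠ 0 ∧ φ ⬝ᵥ x = 0 ∧ φ ⬝ᵥ (k *ᵥ x) = 0 := by
    let L : Vec →ₗ[F] (Fin 2 → F) :=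
      { toFun := fun x => ![φ ⬝ᵥ x, φ ⬝ᵥ (k *ᵥ x)]
        map_add' := fun a b => by ext i; fin_cases i <;> simp [dotProduct_add, Matrix.mulVec_add]
        map_smul' := fun c a => by ext i; fin_cases i <;> simp [dotProduct_smul, Matrix.mulVec_smul] }
    have h1 := LinearMap.finrank_range_add_finrank_ker L
    have h2 := Submodule.finrank_le (LinearMap.range L)
    rw [Module.finrank_fintype_fun_eq_card, Fintype.card_fin] at h1 h2
    obtain ⟨x, hx, hx0⟩ := Submodule.exists_mem_ne_zero_of_ne_bot (p := L.ker) fun e => by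
      rw [e, finrank_bot] at h1; omega
    exact ⟨x, hx0, by simpa [L] using congrFun hx 0, by simpa [L] using congrFun hx 1⟩
  have hfix : ∀ y : Vec, φ ⬝ᵥ y = 0 → (t : Mat) *ᵥ y = y := fun y hy => by
    rw [ht, trv_mulVec, hy, zero_smul, add_zero]
  have hdx : d *ᵥ x = (0 : F) • x := by
    have hinv : ((t⁻¹ : GL3) : Mat) *ᵥ x = x := by
      conv_lhs => rw [← hfix x hx1]
      rw [Max.inv_mulVec_cancel]
    rw [zero_smul, hd, Matrix.sub_mulVec, ← Matrix.mulVec_mulVec, ← Matrix.mulVec_mulVec, hinv, hfix _ hx2, sub_self]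
  have hd0 := eq_scalar hK hdK hx0 hdx
  rw [zero_smul, hd, sub_eq_zero] at hd0
  -- so the field element commutes with the transvection
  have hcomm : ∀ y, (t : Mat) *ᵥ (k *ᵥ y) = k *ᵥ ((t : Mat) *ᵥ y) := fun y => by
    have := congrArg (fun A : Mat => A *ᵥ ((t : Mat) *ᵥ y)) hd0
    simpa only [← Matrix.mulVec_mulVec, Max.inv_mulVec_cancel] using this
  have h1 := hcomm (Pi.single 1 1)
  rw [ht, trv_mulVec, trv_mulVec, hφ, single_one_dotProduct, single_one_dotProduct, Pi.single_eq_same, one_smul,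
    Matrix.mulVec_add, add_right_inj] at h1
  exact hns _ (eq_scalar hK hk (by simp [hu]) h1.symm)

/-- The normaliser of a cubic field is maximal, given the two remaining cases. -/
theorem maximal_of (hK : Cfsg.Geo.IsFieldSubalgebra 3 K) (h4 : Fintype.card F ≠ 4)
    (hodd : ∀ M : Subgroup GL3, M ≤ Cfsg.Geo.specialLinear (Fin 3) F → CycIn K M → Odd (Nat.card M) →
      M ≤ Cfsg.Geo.subalgebraNormalizer K)
    (hfat : ∀ M : Subgroup GL3, M ≤ Cfsg.Geo.specialLinear (Fin 3) F → CycIn K M → ∀ u φ ψ : Vec, u ≠ 0 → φ ≠ 0 →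
      Tr M u φ → Tr M u ψ → (∀ c : F, ψ ≠ c • φ) → Cfsg.Geo.specialLinear (Fin 3) F ≤ M) :
    Cfsg.Geo.IsMaximalIn (Cfsg.Geo.specialLinear (Fin 3) F)
      (Cfsg.Geo.subalgebraNormalizer K ⊓ Cfsg.Geo.specialLinear (Fin 3) F) := by
  classical
  refine isMaximalIn_of inf_le_right (not_le hK) fun M hM hMK g hgM hg => ?_
  have hcyc : CycIn K M := fun x hx hd => hM ⟨mem_normalizer_of_mem hK hx, mem_specialLinear.2 hd⟩
  rcases Nat.even_or_odd (Nat.card M) with he | ho
  · haveI : Fact (Nat.Prime 2) := ⟨Nat.prime_two⟩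
    obtain ⟨t, ht⟩ := exists_prime_orderOf_dvd_card' (G := M) 2 he.two_dvd
    have h1 : (t : GL3) ≠ 1 := fun e => by
      rw [show t = 1 from Subtype.ext e, orderOf_one] at ht
      omega
    have h2 : (t : GL3) * t = 1 := by
      have := pow_orderOf_eq_one t
      rw [ht, pow_two] at this
      exact congrArg Subtype.val this
    obtain ⟨u, φ, ψ, hu, hφ, h, h', hne⟩ :=
      Thin.exists_two_axes hK h4 hcyc t.2 h1 h2 (mem_specialLinear.1 (hMK t.2))
    exact hfat M hMK hcyc u φ ψ hu hφ h h' hne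
  · exact absurd ⟨hodd M hMK hcyc ho hgM, hMK hgM⟩ hg

end Cfsg.Agent.Forms.Max.SL3.Singer.Reduce
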